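import Cfsg.Agent.BH.Star.Defs
import Cfsg.Agent.BH.Reg.A
import Cfsg.Agent.BH.HN
import Cfsg.Agent.TO.Can1
import Cfsg.Agent.S0933

/-!
# BH, box GL: the members of the local block cannot all be matched (helper24)
-/

set_option autoImplicit false
set_option linter.style.haveILetI false
set_option linter.unusedSectionVars false
set_option maxHeartbeats 400000

namespace Cfsg.Agent.BH.Star.GL

open Cfsg Subgroup Cfsg.Agent Cfsg.Agent.Blocks Cfsg.Agent.Characters.Core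
open Cfsg.Agent.TID.Red Cfsg.Agent.KM.BK Cfsg.Agent.TO Cfsg.Agent.H592.Transport Cfsg.Agent.BH.Reg
open Cfsg.Agent.H591.Reynolds (IsStab)
open Cfsg.Agent.OddOrderCharacters.NormalInduced (conjFn)
open Cfsg.Agent.KM.Mu (df df_add df_le df_ab fac_mul fac_mono card_sub card_inf_mul)

variable {p : ℕ} [Fact p.Prime] {M : Ideal AlgInt}

section general

variable {X K T : Type} [Group X] [Finite X] [Group K] [Finite K] [Group T] [Finite T] {ι : K →* X} {κ : K →* T}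
  {τ : T →* X}

theorem ov_equiv {A A' B B' : Type} [Group A] [Group A'] [Group B] [Group B'] [Finite A] [Finite A'] (e : A' ≃* A)
    {ι : A →* B} {ι' : A' →* B'} {χ : B → ℂ} {χ' : B' → ℂ} (η : IrrCharacter A)
    (h : ∀ a, χ' (ι' a) = χ (ι (e a))) : Ov ι' χ' (tr e η : A' → ℂ) ↔ Ov ι χ (η : A → ℂ) := by
  rw [← ov_src_iff e (ι := ι) (ι' := ι.comp e.toMonoidHom) (fun _ => rfl) χ η]
  exact ⟨Ov.congr fun a => (h a).symm, Ov.congr h⟩

/-- the constituents of the members of a block which covers an invariant block -/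
theorem mem_of_covH (hM : IsPModular p M) (hι : Function.Injective ι) (hn : ι.range.Normal)
    {β : Set (IrrCharacter K)} (hβ : IsPBlock M β) (hst : ∀ x, StabH ι β x) {c : Set (IrrCharacter X)}
    (hc : IsPBlock M c) (hcov : CovH ι c β) {χ : IrrCharacter X} (hχ : χ ∈ c) {ξ : IrrCharacter K}
    (h : Ov ι (χ : X → ℂ) (ξ : K → ℂ)) : ξ ∈ β := by
  have := Local.isPrime_of_isPModular hM
  have h1 : ∀ k : ι.range, ι.range.subtype k = ι ((MonoidHom.ofInjective hι).symm k) := fun k =>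
    (MonoidHom.apply_ofInjective_symm hι k).symm
  have h2 : IsStab (trSet (MonoidHom.ofInjective hι).symm β) ⊤ := isStab_iff.2 fun g =>
    ⟨fun _ => (stabH_src _ h1 β g).2 (hst g), fun _ => mem_top g⟩
  rw [← tr_mem_trSet (e := (MonoidHom.ofInjective hι).symm),
    ← cov_eq hM hc (isPBlock_trSet _ hβ) h2 ((covH_src_iff _ h1).2 hcov)]
  exact ⟨χ, hχ, (ov_src_iff _ h1 _ ξ).2 h⟩

/-- index prime to `p` -/
theorem nu_eq (hι : Function.Injective ι) (hn : ι.range.Normal) (hi : ¬ p ∣ ι.range.index) {χ : IrrCharacter X}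
    {ξ : IrrCharacter K} (h : Ov ι (χ : X → ℂ) (ξ : K → ℂ)) : nu p χ = nu p ξ := by
  letI := Fintype.ofFinite X
  letI := Fintype.ofFinite ι.range
  have h1 : ∀ k : ι.range, ι.range.subtype k = ι ((MonoidHom.ofInjective hι).symm k) := fun k =>
    (MonoidHom.apply_ofInjective_symm hι k).symm
  obtain ⟨⟨m, hm⟩, h2⟩ := S0887.result ι.range χ χ.2 _ (tr (MonoidHom.ofInjective hι).symm ξ).2
    ((ov_subtype_iff _ _ _).1 ((ov_src_iff _ h1 _ ξ).2 h)) _ _
    (Basic.irr_one_eq_charDegree χ.2) (Basic.irr_one_eq_charDegree (Subtype.property _))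
  rw [charDegree_tr] at hm h2
  have h3 := Basic.charDegree_pos ξ.2
  rw [hm, Nat.mul_div_cancel_left _ h3] at h2
  have h4 : m ≠ 0 := by
    rintro rfl
    exact (Basic.charDegree_pos χ.2).ne' hm
  unfold nu
  rw [hm, Nat.factorization_mul h3.ne' h4, Finsupp.add_apply,
    Nat.factorization_eq_zero_of_not_dvd (fun h5 => hi (h5.trans h2)), add_zero]

/-- block induction is defined between `P C(P)` and `N(P)` -/
theorem exists_indH (hM : IsPModular p M) (hι : Function.Injective ι) {P : Subgroup X} (hP : IsPGroup p P)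
    (h1 : P ≤ ι.range) (h2 : Ce P ≤ ι.range) (h3 : ι.range ≤ normalizer (P : Set X)) {β : Set (IrrCharacter K)}
    (hβ : IsPBlock M β) : ∃ c, IndH M ι β c := by
  have := Local.isPrime_of_isPModular hM
  obtain ⟨c, hc⟩ := S0919.result p M hM P _ hP h1 h2 h3 _ (isPBlock_trSet (MonoidHom.ofInjective hι).symm hβ)
  exact ⟨c, (indH_iff_range hι).2 hc⟩

/-- **the Clifford correspondent** along embeddings -/
theorem cliff_down (hM : IsPModular p M) (hι : ∀ k, ι k = τ (κ k)) (hi : Function.Injective ι)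
    (hτ : Function.Injective τ) (hn : ι.range.Normal) {η : IrrCharacter K}
    (hT : ∀ x : X, (∀ k k', ι k' = x * ι k * x⁻¹ → (η : K → ℂ) k' = (η : K → ℂ) k) → x ∈ τ.range)
    {χ : IrrCharacter X} (h : Ov ι (χ : X → ℂ) (η : K → ℂ)) : ∃ φ : IrrCharacter T, Ov κ (φ : T → ℂ) (η : K → ℂ) ∧
      IndH M τ (blockOf M (φ : T → ℂ)) (blockOf M (χ : X → ℂ)) ∧ df p χ = df p φ := by
  have := Local.isPrime_of_isPModular hM
  letI := Fintype.ofFinite X
  letI := Fintype.ofFinite ι.range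
  letI := Fintype.ofFinite τ.range
  have h1 : ∀ k : ι.range, ι.range.subtype k = ι ((MonoidHom.ofInjective hi).symm k) := fun k =>
    (MonoidHom.apply_ofInjective_symm hi k).symm
  have k1 : ∀ g : X, conjFn ι.range (tr (MonoidHom.ofInjective hi).symm η : ι.range → ℂ) g =
      (tr (MonoidHom.ofInjective hi).symm η : ι.range → ℂ) → g ∈ τ.range := fun g hg => hT g fun k k' e => by
    have h2 := congrFun hg (MonoidHom.ofInjective hi k)
    have h3 : (⟨g * (MonoidHom.ofInjective hi k : ι.range) * g⁻¹, hn.conj_mem _ (MonoidHom.ofInjective hi k).2 g⟩ :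
      ι.range) = MonoidHom.ofInjective hi k' := Subtype.ext e.symm
    rw [conjFn, h3, tr_apply, tr_apply, MulEquiv.symm_apply_apply, MulEquiv.symm_apply_apply] at h2
    exact h2
  have k2 : Ov ι.range.subtype (χ : X → ℂ) (tr (MonoidHom.ofInjective hi).symm η : ι.range → ℂ) :=
    (ov_src_iff _ h1 _ η).2 h
  obtain ⟨φ, h2, h3, h4⟩ := H591.Cliff.exists_ind (tr (MonoidHom.ofInjective hi).symm η).2 k1
    (range_le_of_comp hι) χ.2 ((ov_subtype_iff _ _ _).1 k2)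
  obtain ⟨φ, rfl⟩ : ∃ φ' : IrrCharacter τ.range, φ'.1 = φ := ⟨⟨φ, h2⟩, rfl⟩
  have k3 := (ov_inclusion_iff (range_le_of_comp hι) _ _).2 h3
  refine ⟨tr (MonoidHom.ofInjective hτ) φ, (ov_equiv (MonoidHom.ofInjective hi).symm η fun a => ?_).1 k3, ?_, ?_⟩
  · rw [tr_apply]
    exact congrArg φ.1 (Subtype.ext ((h1 a).trans (hι _)))
  · have h5 := S0933.result p M hM τ.range φ (by rw [← h4]; exact χ.2)
    rw [← h4] at h5
    have h6 := IndH.src (MonoidHom.ofInjective hτ) (ι := τ.range.subtype) (ι' := τ) (fun _ => rfl) h5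
    rwa [Basic.isPBlock_eq_blockOf h6.1 (tr_mem_trSet.2 (Basic.mem_blockOf_self _))] at h6
  · rw [TB.df_tr, TB.df_ind τ.range φ χ h4.symm]

/-- the idempotent of the induced block -/
theorem omega_one (hM : IsPModular p M) {a : Set (IrrCharacter K)} {c : Set (IrrCharacter X)} (h : IndH M ι a c)
    {φ : IrrCharacter K} (hφ : φ ∈ a) :
    ¬ MemLocalIdeal M (∑ᶠ g : K, blockCoeff c (ι g) * (φ : K → ℂ) g / (φ : K → ℂ) 1) := by
  classical
  have := Local.isPrime_of_isPModular hM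
  letI := Fintype.ofFinite X
  letI := Fintype.ofFinite K
  obtain ⟨χ, hχ⟩ := Basic.isPBlock_nonempty h.2.1
  have h1 := memLocalIdeal_of_icc (M := M) ι φ (isIrr_isClassFunction χ.2) (fun y _ => h.2.2 φ hφ χ hχ y)
    (Osima.isClassFunction_blockCoeff c) (Osima.memLocalRing_blockCoeff hM h.2.1)
  rw [S0920.sum_blockCoeff_mul, if_pos hχ] at h1
  rw [finsum_eq_sum_of_fintype]
  simp only [mul_div_assoc]
  intro h2
  have h3 := Local.memLocalIdeal_sub h2 h1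
  rw [sub_sub_cancel] at h3
  exact Local.not_memLocalIdeal_one h3

end general

variable {G : Type} [Group G] [Finite G] {N : Subgroup G} [hN : N.Normal] {b : Set (IrrCharacter N)}
  {B : Set (IrrCharacter G)} {D Q : Subgroup G} {θ : G → ℂ}

omit hN in
theorem over_iff {T : Subgroup G} (h : N ≤ T) {χ : T → ℂ} {ψ : IrrCharacter N} (e : ∀ n : N, θ n = (ψ : N → ℂ) n) :
    Over T N χ θ ↔ Ov (inclusion h) χ (ψ : N → ℂ) := by
  unfold Over
  rw [show (fun n : N.subgroupOf T => θ ((n : T) : G)) = tr (subgroupOfEquivOfLe h) ψ from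
    funext fun n => e (subgroupOfEquivOfLe h n)]
  exact ov_src_iff (subgroupOfEquivOfLe h) (ι := inclusion h) (ι' := (N.subgroupOf T).subtype) (fun _ => rfl) χ ψ

theorem mem_TI (h : Root p M N b Q θ) {T : Subgroup G} (hT : N ≤ T) (c : Ce (Q.subgroupOf N)) :
    ((c : N) : G) ∈ T ⊓ In Q θ := ⟨hT c.1.2, mem_In_ce h c⟩

theorem stab_iff (h : Root p M N b Q θ) {T : Subgroup G} (h1 : ∀ c : Ce (Q.subgroupOf N), ((c : N) : G) ∈ T)
    (hT : T ≤ normalizer (Q : Set G)) (x : T) : (x : G) ∈ In Q θ ↔ StabH (lam N Q T h1) (rt M N Q θ) x :=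
  (mem_In_iff_stab h (inclusion hT x)).trans (stabH_comp (inclusion_injective hT) (fun _ => rfl) _ x)

/-- a block of the inertia group in `T` which covers the root induces a block of `T` -/
theorem exists_up (h : Root p M N b Q θ) {T : Subgroup G} (hT : N ≤ T) {a : Set (IrrCharacter (T ⊓ In Q θ : Subgroup G))}
    (ha : IsPBlock M a) (hc : CovH (lam N Q _ (mem_TI h hT)) a (rt M N Q θ)) :
    ∃ c, IndH M (inclusion (inf_le_left : T ⊓ In Q θ ≤ T)) a c := by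
  have := h.can.prime
  have h1 : T ⊓ In Q θ ≤ T ⊓ normalizer (Q : Set G) := inf_le_inf_left T Cov.In_le_normalizer
  have h2 : ∀ c : Ce (Q.subgroupOf N), ((c : N) : G) ∈ T ⊓ normalizer (Q : Set G) := fun c =>
    ⟨hT c.1.2, mem_norm h.le c⟩
  obtain ⟨a', h3, -⟩ := FRH h.can.hM (τ := inclusion h1) (ι := lam N Q _ h2) (fun _ => rfl) (lam_inj _)
    (inclusion_injective h1) (lam_normal h.le _ inf_le_right) h.can.he (fun x => by
      rw [range_inclusion', mem_subgroupOf, ← stab_iff h h2 inf_le_right]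
      exact ⟨fun k => k.2, fun k => ⟨x.2.1, k⟩⟩) ha hc
  have h4 : Q ≤ T := h.le.trans hT
  have h5 : (inclusion (inf_le_left : T ⊓ normalizer (Q : Set G) ≤ T)).range =
      normalizer ((Q.subgroupOf T : Subgroup T) : Set T) := by
    ext t
    rw [range_inclusion', mem_subgroupOf, mem_normalizer_subgroupOf h4]
    exact ⟨fun k => k.2, fun k => ⟨t.2, k⟩⟩
  obtain ⟨c, h6⟩ := exists_indH h.can.hM (inclusion_injective (inf_le_left : T ⊓ normalizer (Q : Set G) ≤ T))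
    (P := Q.subgroupOf T) (Cov.pg_D h.le h.can).comap_subtype (h5 ▸ le_normalizer)
    (h5 ▸ centralizer_le_normalizer _) h5.le h3.2.1
  exact ⟨c, (IndH.trans_iff (ι := inclusion (inf_le_left : T ⊓ In Q θ ≤ T)) (fun _ => rfl) h3).2 h6⟩

/-- the inertial index -/
theorem idx_lam (h : Root p M N b Q θ) :
    ¬ p ∣ (lam N Q _ (mem_TI h le_rfl)).range.index := by
  have h1 : (In (Q.subgroupOf N) fun n : N => θ n) = (N ⊓ In Q θ).subgroupOf N := by
    ext n
    rw [← mem_In_sub h.le h.zero]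
    exact ⟨fun k => ⟨n.2, k⟩, fun k => k.2⟩
  have h2 := card_inf_mul (In (Q.subgroupOf N) fun n : N => θ n) (Ce (Q.subgroupOf N))
  rw [inf_eq_right.2 (Cov.ce_le_In h.can), h1, card_sub inf_le_left, ← h1,
    ← (lam N Q _ (mem_TI h le_rfl)).range.card_mul_index,
    ← Nat.card_congr (MonoidHom.ofInjective (lam_inj (mem_TI h le_rfl))).toEquiv] at h2
  rw [← Nat.eq_of_mul_eq_mul_left Nat.card_pos h2]
  exact h.can.idx

/-- a character of the local group above the root -/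
theorem loc_facts (km : KMa p) (h : Root p M N b Q θ) {η : IrrCharacter (N ⊓ In Q θ : Subgroup G)}
    {ξ : IrrCharacter (Ce (Q.subgroupOf N))} (h1 : ξ ∈ rt M N Q θ)
    (h2 : Ov (lam N Q _ (mem_TI h le_rfl)) (η : (N ⊓ In Q θ : Subgroup G) → ℂ) ξ) :
    η ∈ LocB M N Q θ ∧ nu p η + nc p Q = nc p (N ⊓ In Q θ) := by
  have := h.can.prime
  constructor
  · let e : (Ce Q).subgroupOf (N ⊓ In Q θ) ≃* Ce (Q.subgroupOf N) :=
      { toFun := fun x => ⟨⟨x.1.1, x.1.2.1⟩, (Cov.mem_Ce_sub h.le).2 x.2⟩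
        invFun := fun y => ⟨⟨y.1.1, y.1.2, mem_In_ce h y⟩, (Cov.mem_Ce_sub h.le).1 y.2⟩
        left_inv := fun _ => rfl
        right_inv := fun _ => rfl
        map_mul' := fun _ _ => rfl }
    exact ⟨tr e ξ, (sameBlock_tr e (θ := h.can.chr)).2 h1, (ov_src_iff e (fun _ => rfl) _ ξ).2 h2⟩
  · have h3 := df_ab h.can.hM (km.pp h.can.hM _) h.can.he h.can.hdef
      (Ab.comap h.can.comm (Ce (Q.subgroupOf N)).subtype_injective) h1
    rw [card_sub h.can.ab, card_sub h.le] at h3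
    have h4 := df_add (p := p) ξ
    have h5 := fac_mul (p := p) (lam N Q _ (mem_TI h le_rfl)).range.card_mul_index
      Nat.card_pos.ne'
    rw [← Nat.card_congr (MonoidHom.ofInjective (lam_inj (mem_TI h le_rfl))).toEquiv,
      Nat.factorization_eq_zero_of_not_dvd (idx_lam h)] at h5
    rw [nu_eq (lam_inj _) (lam_normal h.le _ (inf_le_right.trans Cov.In_le_normalizer)) (idx_lam h) h2]
    unfold nc
    omega

theorem relIndex_pow {P R : Subgroup G} (hP : IsPGroup p P) (h : R ≤ N ⊔ P) : ∃ k, N.relIndex R = p ^ k := by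
  have h1 : R.map (QuotientGroup.mk' N) ≤ P.map (QuotientGroup.mk' N) := by
    refine (map_mono h).trans ?_
    rw [Subgroup.map_sup, QuotientGroup.map_mk'_self, bot_sup_eq]
  rw [← QuotientGroup.ker_mk' N, relIndex_ker]
  exact IsPGroup.iff_card.1 ((hP.map _).to_le h1)

/-- the members of the block of the inertia group have maximal defect -/
theorem df_local (SPL : BoxSPL p M) (TT : BoxTT p M) (m : Min p M B D) (hZ : center G < N)
    (h : Root p M N (cov B N) Q θ) (hz : Zr N Q θ = ⊥)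
    (hyp : ∀ η : G → ℂ, (fun n : (N ⊓ In Q θ : Subgroup G) => η n) ∈ Fn (LocB M N Q θ) →
      (∀ x, x ∉ N ⊓ In Q θ → η x = 0) → ∃ ψ : G → ℂ, (fun n : N => ψ n) ∈ Fn (cov B N) ∧ (∀ x, x ∉ N → ψ x = 0) ∧
        (∀ h ∈ In Q θ, h ∈ In ⊤ ψ ↔ h ∈ In ⊤ η) ∧ HasMatch p M (In ⊤ ψ) N (In Q θ) ψ η)
    {β : Set (IrrCharacter (In Q θ))} (h1 : IsInducedBlock M _ β B)
    (h2 : CovH (lam N Q _ (mem_In_ce h)) β (rt M N Q θ)) {χ : IrrCharacter (In Q θ)} (hχ : χ ∈ β) :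
    df p χ = nc p D := by
  have hM := m.hM
  have := h.can.prime
  have hI : In Q θ ≤ normalizer (Q : Set G) := Cov.In_le_normalizer
  letI := Fintype.ofFinite G
  letI := Fintype.ofFinite N
  obtain ⟨η₀, a1⟩ := exists_ov (inclusion (inf_le_right : N ⊓ In Q θ ≤ In Q θ)) χ.2
  obtain ⟨ξ, a2⟩ := exists_ov (lam N Q _ (mem_TI h le_rfl)) η₀.2
  have a3 : ξ ∈ rt M N Q θ := mem_of_covH hM (lam_inj _) (lam_normal h.le _ hI) h.can.he
    (fun x => (stab_iff h _ hI x).1 x.2) h1.1 h2 hχ (Ov.trans (fun _ => rfl) (isIrr_isCharacter χ.2) η₀.2 ξ.2 a1 a2)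
  obtain ⟨a4, a5⟩ := loc_facts m.km h a3 a2
  obtain ⟨η, e0, e1⟩ : ∃ η : G → ℂ, (∀ x, x ∉ N ⊓ In Q θ → η x = 0) ∧
      (fun n : (N ⊓ In Q θ : Subgroup G) => η n) = η₀ :=
    ⟨extendByZero _ η₀, fun _ hx => extendByZero_of_notMem _ _ hx, Cov.ext_coe _⟩
  have a6 : (fun n : (N ⊓ In Q θ : Subgroup G) => η n) ∈ Fn (LocB M N Q θ) := ⟨η₀, a4, e1.symm⟩
  obtain ⟨ψ, ⟨ψ₀, b1, b2⟩, b3, b4, b5⟩ := hyp η a6 e0
  have fix : ∀ {S : Subgroup G} {f : G → ℂ} {g : G}, (∀ x, x ∉ S → f x = 0) → (∀ x, g * x * g⁻¹ ∈ S ↔ x ∈ S) →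
      (∀ x ∈ S, f (g * x * g⁻¹) = f x) → g ∈ In ⊤ f := fun {S f g} k1 k2 k3 => ⟨fun _ => Iff.rfl, fun x => by
    by_cases k4 : x ∈ S
    · exact k3 x k4
    · exact (k1 _ fun k5 => k4 ((k2 x).1 k5)).trans (k1 x k4).symm⟩
  set T := In ⊤ ψ with hT
  letI := Fintype.ofFinite T
  have c1 : N ≤ T := fun n hn => fix b3 (Cov.conj_mem_iff N n) fun x hx =>
    (congrFun b2 _).symm.trans ((Basic.irr_conj ψ₀.2 ⟨x, hx⟩ ⟨n, hn⟩).trans (congrFun b2 _))
  have c2 : T ≤ N ⊔ (T ⊓ In Q θ) := fun t ht => by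
    obtain ⟨n, hn, y, hy, rfl⟩ := mem_sup_of_normal_left.1 ((frat h (m.stab N)).ge (mem_top t))
    exact mul_mem_sup hn ⟨(mul_mem_cancel_left (c1 hn)).1 ht, hy⟩
  have c3 : N ⊓ In Q θ ≤ T ⊓ In Q θ := inf_le_inf_right _ c1
  have c4 : ∀ g ∈ In Q θ, ∀ x, g * x * g⁻¹ ∈ N ⊓ In Q θ ↔ x ∈ N ⊓ In Q θ := fun g hg x => by
    rw [mem_inf, mem_inf, Cov.conj_mem_iff, mul_mem_cancel_right (inv_mem hg), mul_mem_cancel_left hg]
  obtain ⟨φ, d1, d2, d3⟩ := cliff_down hM (κ := inclusion c3) (τ := inclusion (inf_le_right : T ⊓ In Q θ ≤ In Q θ))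
    (fun _ => rfl) (inclusion_injective _) (inclusion_injective _)
    ⟨fun a ha g => by
      rw [range_inclusion'] at ha ⊢
      exact (c4 g g.2 a).2 ha⟩
    (fun x hx => by
      rw [range_inclusion']
      refine ⟨(b4 x x.2).2 (fix e0 (c4 x x.2) fun y hy => ?_), x.2⟩
      exact (congrFun e1 ⟨_, (c4 x x.2 y).2 hy⟩).trans ((hx ⟨y, hy⟩ _ rfl).trans (congrFun e1 _).symm)) a1
  rw [← Basic.isPBlock_eq_blockOf h1.1 hχ] at d2
  have d4 : φ ∈ blockOf M (φ : (T ⊓ In Q θ : Subgroup G) → ℂ) := Basic.mem_blockOf_self φ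
  obtain ⟨c, d5⟩ := exists_up h c1 d2.1 ⟨φ, d4, ξ, a3, Ov.trans (fun _ => rfl) (isIrr_isCharacter φ.2) η₀.2 ξ.2 d1 a2⟩
  have d6 : IsInducedBlock M T c B := (IndH.trans_iff (ι₂ := T.subtype) (ι := (T ⊓ In Q θ).subtype) (fun _ => rfl) d5).1
    ((IndH.trans_iff (ι₂ := (In Q θ).subtype) (ι := (T ⊓ In Q θ).subtype) (fun _ => rfl) d2).2 h1)
  have d7 : CovH (inclusion c1) c (cov B N) := by
    obtain ⟨χ₁, k1⟩ := Basic.isPBlock_nonempty d6.1
    obtain ⟨ζ, k2⟩ := exists_ov (inclusion c1) χ₁.2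
    obtain ⟨χ₂, k3, k4⟩ := IndH.exists_ov hM T.subtype_injective d6 k1
    exact ⟨χ₁, k1, ζ, ⟨χ₂, k3, Ov.trans (fun _ => rfl) (isIrr_isCharacter χ₂.2) χ₁.2 ζ.2 k4 k2⟩, k2⟩
  obtain ⟨P, f1, f2⟩ := exists_defect_inf hM (inclusion_injective c1) (by rw [range_inclusion']; infer_instance) d6.1
    h.can.hb d7 h.can.hD
  have f3 : P.map T.subtype ⊓ N = Q := by
    ext x
    constructor
    · rintro ⟨⟨y, k1, rfl⟩, k2⟩
      exact f2.le (show (⟨y, k2⟩ : N) ∈ P.comap (inclusion c1) from k1)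
    · intro k1
      exact ⟨⟨_, f2.ge (show (⟨x, h.le k1⟩ : N) ∈ Q.subgroupOf N from k1), rfl⟩, h.le k1⟩
  have f4 : nc p (P.map T.subtype) ≤ nc p D := by
    obtain ⟨E, k1, k2⟩ := S0917.result p M hM T _ d6.1 B m.hB d6 P f1
    exact (fac_mono k2).trans (TB.fac_defect hM m.hB k1 m.hD).le
  have f5 : nc p (P.map T.subtype) = nc p P := congrArg (fun n : ℕ => n.factorization p)
    (card_map_of_injective T.subtype_injective)
  have f6 : ∀ χ₁ ∈ c, Over T N (χ₁ : T → ℂ) ψ → df p χ₁ = nc p D := fun χ₁ k1 k2 => by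
    have k3 := H591.Cliff.irr_ind (K := G) ψ₀.2 (T := T) (fun g hg => fix b3 (Cov.conj_mem_iff N g) fun x hx =>
      (congrFun b2 ⟨_, hN.conj_mem x hx g⟩).symm.trans ((congrFun hg ⟨x, hx⟩).trans (congrFun b2 _))) c1 χ₁.2
      ((ov_inclusion_iff c1 _ _).1 ((over_iff c1 fun n => (congrFun b2 n).symm).1 k2))
    have k4 := S0933.result p M hM T χ₁ k3
    rw [← Basic.isPBlock_eq_blockOf d6.1 k1] at k4
    have k5 : (⟨_, k3⟩ : IrrCharacter G) ∈ B := by
      rw [← H592.Transit.induced_unique k4 d6]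
      exact Basic.mem_blockOf_self (⟨_, k3⟩ : IrrCharacter G)
    rw [← TB.df_ind T χ₁ ⟨_, k3⟩ rfl, TB.df_hz hM m.hB m.hD (eq_iff_hz.1 m.hz) k5]
  have f7 : ∀ χ₁ ∈ c, Over T N (χ₁ : T → ℂ) ψ → nc p (P.map T.subtype) = nc p D := fun χ₁ k1 k2 =>
    le_antisymm f4 (by rw [← f6 χ₁ k1 k2, f5]; exact df_le hM d6.1 f1 k1)
  have g1 := omega_one hM d5 d4
  obtain ⟨⟨χ₁, g2, g3⟩, g4⟩ := TT hM m.km G T N (In Q θ) ψ η c1 c2 (b2 ▸ ψ₀.2) (e1 ▸ η₀.2) b5
    (fun H _ _ k1 => m.ih H (Or.inl (k1.trans_lt ((Nat.le_of_dvd (Nat.pos_of_ne_zero index_ne_zero_of_finite)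
      (relIndex_dvd_index_of_normal N T)).trans_lt (index_strictAnti hZ)))))
    c (P.map T.subtype) (map_subtype_le P) d6.1
    (by rw [subgroupOf, comap_map_eq_self_of_injective T.subtype_injective]; exact f1)
    (fun χ₁ k1 k2 => (f6 χ₁ k1 k2).trans (f7 χ₁ k1 k2).symm)
    (by
      have k1 := TB.df_hz hM h.can.hb h.can.hD (eq_iff_hz.1 (m.hzc N)) b1
      have k2 := df_add (p := p) ψ₀
      rw [card_sub h.le] at k1
      rw [f3, show (charDegree ψ).factorization p = nu p ψ₀ by rw [nu, b2]; rfl]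
      unfold nc
      omega)
    (by rw [f3, show (charDegree η).factorization p = nu p η₀ by rw [nu, ← e1]; rfl, a5])
    (fun t ht => SPL G N _ Q θ h hz _ (inf_le_inf_right _ le_sup_left) inf_le_right
      (relIndex_pow (((H592.Defect.isPGroup_of_isDefectGroup f1).map _).map _) inf_le_left) η a6 fun r hr n _ =>
        ((b4 r hr.2).1 ((sup_le c1 (by
          rintro _ ⟨_, ⟨y, -, rfl⟩, rfl⟩
          exact mul_mem (mul_mem ht y.2) (inv_mem ht))) hr.1)).2 n)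
    φ ((over_iff c3 (congrFun e1)).2 d1)
  rw [d3, g4 g1, f7 χ₁ ((g3 c d6.1).2 g1) g2]

end Cfsg.Agent.BH.Star.GL

namespace Cfsg.Agent.BH

open Cfsg.Agent.KM.BK Cfsg.Agent.TO

/-- **[GL]** -/
theorem boxGL {p : ℕ} [Fact p.Prime] {M : Ideal AlgInt} (SPL : BoxSPL p M) (TT : BoxTT p M) : BoxGL p M := by
  intro G _ _ B D m hp N _ hZ hab hne hyp
  obtain ⟨⟨θ, h, -⟩, -⟩ := boxRT m.hM G N B D m.hB m.hD (m.blk N) (m.stab N) hab
  obtain ⟨β, h1, h2, h3⟩ := Reg.key1 m.hM m.hB h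
  have h4 := fun χ hχ => Star.GL.df_local SPL TT m hZ h (hyp θ h).1 (hyp θ h).2 h1 h2 (χ := χ) hχ
  obtain ⟨E, hE⟩ := H592.Defect.exists_defectGroup p m.hM h1.1
  have h5 : In (D ⊓ N) θ ≠ ⊤ := fun h6 => hne (le_bot_iff.1 (hp ▸ Lib.Cores.le_pCore
    ⟨fun a ha g => ((h6.ge (Subgroup.mem_top g)).1 a).2 ha⟩ (Cov.pg_D h.le h.can)))
  refine m.na (ab_of_defect m.hM m.hB (h3 E hE) ((m.ih _ (lt_sub _ h5) β E h1.1 hE fun χ hχ ψ hψ => ?_).map _) m.hD)
  have h6 := KM.Mu.df_add (p := p) χ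
  have h7 := KM.Mu.df_add (p := p) ψ
  rw [h4 χ hχ] at h6
  rw [h4 ψ hψ] at h7
  omega

end Cfsg.Agent.BH
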