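import Cfsg.Agent.BH.Star.Pre

/-!
# BH, box TENS: a family of matches on one group, the wreath cover (helper57)
-/

set_option autoImplicit false
set_option linter.unusedSectionVars false

namespace Cfsg.Agent.BH.Star

open Cfsg Cfsg.Agent Cfsg.Agent.Characters.Core Cfsg.Agent.Blocks Cfsg.Agent.TID.Red Cfsg.Agent.KM.BK Cfsg.Agent.TO
open Cfsg.Agent.H686.CharKit (apply_mul_of_eq apply_mul_of_eq')

section sec

variable {G W : Type} [Group G] [Group W] {N : Subgroup G} {π : W →* G} {s : N →* W}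

theorem conj_sec (h1 : ∀ n, π (s n) = n) (h2 : ∀ u n, ∃ n', u * s n * u⁻¹ = s n') (u : W) (n : N) :
    ∃ n' : N, u * s n * u⁻¹ = s n' ∧ (n' : G) = π u * n * (π u)⁻¹ := by
  obtain ⟨n', h⟩ := h2 u n
  exact ⟨n', h, by rw [← h1, ← h, map_mul, map_mul, map_inv, h1]⟩

theorem comm_sec (h1 : ∀ n, π (s n) = n) (h2 : ∀ u n, ∃ n', u * s n * u⁻¹ = s n') {u : W} {n : N}
    (h : n * π u = π u * n) : s n * u = u * s n := by
  obtain ⟨n', h3, h4⟩ := conj_sec h1 h2 u n
  rw [← h, mul_inv_cancel_right] at h4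
  rw [Subtype.ext h4] at h3
  exact (mul_inv_eq_iff_eq_mul.1 h3).symm

theorem st_eq (h1 : ∀ n, π (s n) = n) (h2 : ∀ u n, ∃ n', u * s n * u⁻¹ = s n') {A : Type} [Group A] (m : A →* N)
    (u : W) : (Cu u).comap (s.comp m) = (Cu (π u)).comap (N.subtype.comp m) := by
  ext a
  simp only [Subgroup.mem_comap, Subgroup.mem_centralizer_singleton_iff, MonoidHom.comp_apply, Subgroup.subtype_apply]
  exact ⟨fun h => by simpa only [map_mul, h1] using congrArg π h, comm_sec h1 h2⟩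

theorem of_normal (h : s.range.Normal) (u : W) (n : N) : ∃ n', u * s n * u⁻¹ = s n' :=
  (h.conj_mem _ ⟨n, rfl⟩ u).imp fun _ => Eq.symm

theorem sum_inter {S S' : Set W} {F : W → ℂ} (h : ∀ v, v ∉ S' → F v = 0) : ∑ᶠ v ∈ S ∩ S', F v = ∑ᶠ v ∈ S, F v :=
  finsum_mem_inter_support_eq' _ _ _ fun v hv => ⟨fun h1 => h1.1, fun h1 => ⟨h1, not_not.1 fun h2 => hv (h v h2)⟩⟩

end sec

/-- a family of matches on one group -/
structure Fam (p : ℕ) (M : Ideal AlgInt) {G I : Type} [Group G] (K H₀ : Subgroup G) [Fintype K] (X X' : I → G → ℂ)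
    (V : Type) [Group V] where
  P : I → V →* G
  s : I → K →* V
  Ψ : I → V → ℂ
  Ψ' : I → V → ℂ
  sec : ∀ j k, P j (s j k) = k
  conj : ∀ j u k, ∃ k', u * s j k * u⁻¹ = s j k'
  chr : ∀ j, IsCharacter V (Ψ j)
  chr' : ∀ j, IsCharacter (H₀.comap (P j)) fun u => Ψ' j u
  zero : ∀ j u, P j u ∉ H₀ → Ψ' j u = 0
  ext : ∀ j k, Ψ j (s j k) = X j k
  ext' : ∀ j (k : K), (k : G) ∈ H₀ → Ψ' j (s j k) = X' j k
  cong : ∀ j u, ¬ p ∣ orderOf u → ∃ a a' : ℂ, MemLocalRing M a ∧ MemLocalIdeal M (a - a') ∧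
    ∑ k, Ψ j (s j k * u * (s j k)⁻¹) / X j 1 = Nat.card ((Cu (P j u)).comap K.subtype) * a ∧
    ∑ k, Ψ' j (s j k * u * (s j k)⁻¹) / X' j 1 = Nat.card ((Cu (P j u)).comap K.subtype) * a'

variable {p : ℕ} {M : Ideal AlgInt} {G I : Type} [Group G] [Finite G] {K H₀ : Subgroup G} [Fintype K] {X X' : I → G → ℂ}

theorem exists_fam [M.IsPrime] [Finite I] {T₀ : I → Subgroup G} (h : ∀ j, HasMatch p M (T₀ j) K H₀ (X j) (X' j))
    (hX : ∀ j, IsIrrCharacter K fun k => X j k) :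
    ∃ (V : Type) (_ : Group V) (_ : Finite V) (F : Fam p M K H₀ X X' V), ∀ j, T₀ j ≤ (F.P j).range := by
  classical
  choose W i1 i2 m using h
  replace m := fun j => (m j).some
  let e := fun j => Pi.evalMonoidHom W j
  let f : ∀ j, H₀.comap ((m j).π.comp (e j)) →* H₀.comap (m j).π := fun j =>
    ((e j).comp (Subgroup.subtype _)).codRestrict _ fun x => x.2
  have h1 : ∀ j k, e j (Pi.mulSingle j ((m j).s k)) = (m j).s k := fun j k => Pi.mulSingle_eq_same j _
  refine ⟨∀ j, W j, inferInstance, inferInstance, ⟨fun j => (m j).π.comp (e j),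
    fun j => (MonoidHom.mulSingle W j).comp (m j).s, fun j u => (m j).ψ (u j),
    fun j u => if (m j).π (u j) ∈ H₀ then (m j).ψ' (u j) else 0, fun j k => (congrArg (m j).π (h1 j k)).trans ((m j).sec k),
    fun j u k => ?_, fun j => isCharacter_comp (e j) (isIrr_isCharacter (m j).irr), fun j => ?_, fun j u hu => if_neg hu,
    fun j k => (congrArg (m j).ψ (h1 j k)).trans ((m j).ext k), fun j k hk => ?_, fun j u hu => ?_⟩, fun j t ht => ?_⟩
  · obtain ⟨k', h2⟩ := of_normal (m j).normal (u j) k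
    refine ⟨k', funext fun i => ?_⟩
    change u i * Pi.mulSingle (M := W) j ((m j).s k) i * (u i)⁻¹ = Pi.mulSingle (M := W) j ((m j).s k') i
    by_cases hi : i = j
    · subst hi
      rw [Pi.mulSingle_eq_same, Pi.mulSingle_eq_same, h2]
    · rw [Pi.mulSingle_eq_of_ne hi, Pi.mulSingle_eq_of_ne hi, mul_one, mul_inv_cancel]
  · convert isCharacter_comp (f j) (isIrr_isCharacter (m j).irr') using 2 with u
    exact if_pos u.2
  · change (if (m j).π (e j (Pi.mulSingle j _)) ∈ H₀ then (m j).ψ' (e j (Pi.mulSingle j _)) else 0) = _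
    rw [h1, (m j).sec, if_pos hk, (m j).ext' k hk]
  · have h2 : (m j).ψ 1 = X j 1 := by simpa using (m j).ext 1
    have h3 := st_eq (m j).sec (of_normal (m j).normal) (MonoidHom.id K) (u j)
    rw [MonoidHom.comp_id, MonoidHom.comp_id] at h3
    have h4 : ∀ k, (Pi.mulSingle j ((m j).s k) * u * (Pi.mulSingle j ((m j).s k))⁻¹ : ∀ j, W j) j =
        (m j).s k * u j * ((m j).s k)⁻¹ := fun k => by simp
    refine ⟨_, _, ?_, (m j).cong (u j) fun h5 => hu (h5.trans (orderOf_map_dvd (e j) u)), ?_, ?_⟩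
    · rw [← h2]
      exact cls_int (of_normal (m j).normal _) (isCharacter_comp (Subgroup.subtype _) (isIrr_isCharacter (m j).irr))
        (by simpa only [(m j).ext] using hX j)
    · refine Eq.trans ?_ (h3 ▸ sum_cls (m j).s (u j) fun v => (m j).ψ v / X j 1)
      exact Finset.sum_congr rfl fun k _ => congrArg (fun v => (m j).ψ v / X j 1) (h4 k)
    · have h5 := sum_cls (m j).s (u j) fun v => (if (m j).π v ∈ H₀ then (m j).ψ' v else 0) / X' j 1
      rw [h3, ← sum_inter (S' := {v | (m j).π v ∈ H₀}) fun v (hv : (m j).π v ∉ H₀) => by rw [if_neg hv, zero_div],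
        finsum_mem_congr (g := fun v => (m j).ψ' v / X' j 1) rfl fun v hv => by
          rw [if_pos (show (m j).π v ∈ H₀ from hv.2)]] at h5
      refine Eq.trans ?_ h5
      exact Finset.sum_congr rfl fun k _ =>
        congrArg (fun v => (if (m j).π v ∈ H₀ then (m j).ψ' v else 0) / X' j 1) (h4 k)
  · obtain ⟨w, hw⟩ : t ∈ (m j).π.range := (m j).range.symm ▸ ht
    exact ⟨Pi.mulSingle j w, (congrArg (m j).π (Pi.mulSingle_eq_same j w)).trans hw⟩

namespace Fam

variable {V : Type} [Group V] [Finite V] (F : Fam p M K H₀ X X' V) (j : I)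

theorem norm (u : V) : F.P j u ∈ Subgroup.normalizer (K : Set G) := Subgroup.mem_normalizer_fintype fun k hk => by
  obtain ⟨k', -, h⟩ := conj_sec (F.sec j) (F.conj j) u ⟨k, hk⟩
  exact h ▸ k'.2

/-- the preimage of the centralizer -/
def C : Subgroup V := (Ce K).comap (F.P j)

theorem C_normal : (F.C j).Normal := ⟨fun c hc u k hk => by
  have h1 := hc _ ((Subgroup.mem_normalizer_iff.1 (inv_mem (F.norm j u)) k).1 hk)
  rw [map_mul, map_mul, map_inv]
  calc k * (F.P j u * F.P j c * (F.P j u)⁻¹) =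
      F.P j u * ((F.P j u)⁻¹ * k * (F.P j u)⁻¹⁻¹ * F.P j c) * (F.P j u)⁻¹ := by group
    _ = _ := by rw [h1]; group⟩

/-- the canonical lifts which act trivially -/
def κ : Subgroup V := ⁅F.C j, F.C j⁆

theorem κ_normal : (F.κ j).Normal :=
  haveI := F.C_normal j
  Subgroup.commutator_normal _ _

theorem κ_le : F.κ j ≤ F.C j :=
  haveI := F.C_normal j
  Subgroup.commutator_le_left _ _

theorem le_map {L : Subgroup G} (h1 : ⁅L, L⁆ = L) (h2 : L ≤ Ce K) (h3 : L ≤ (F.P j).range) : L ≤ (F.κ j).map (F.P j) := by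
  have h4 : L ≤ (F.C j).map (F.P j) := fun x hx => by
    obtain ⟨u, rfl⟩ := h3 hx
    exact ⟨u, h2 hx, rfl⟩
  rw [κ, Subgroup.map_commutator, ← h1]
  exact Subgroup.commutator_mono h4 h4

theorem comm_C {c : V} (hc : c ∈ F.C j) (k : K) : F.s j k * c * (F.s j k)⁻¹ * c⁻¹ = 1 := by
  rw [comm_sec (F.sec j) (F.conj j) (hc k k.2)]
  group

variable {j}

theorem Ψ_eq (hX : IsIrrCharacter K fun k => X j k) {u v : V} (h : u⁻¹ * v ∈ F.κ j) : F.Ψ j v = F.Ψ j u := by
  have h1 : F.κ j ≤ H597.Base.ker (F.chr j) := Subgroup.commutator_le.2 fun a _ b hb =>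
    sc' (F.s j) (F.chr j) (by simpa only [F.ext] using hX) (fun k => by rw [F.comm_C j hb]) a
  rw [← mul_inv_cancel_left u v, apply_mul_of_eq' (F.chr j) (h1 h)]

theorem Ψ'_eq (hc : Ce K ≤ H₀) (hX : IsIrrCharacter (K ⊓ H₀ : Subgroup G) fun k => X' j k) {u v : V}
    (h : u⁻¹ * v ∈ F.κ j) : F.Ψ' j v = F.Ψ' j u := by
  let s' : (K ⊓ H₀ : Subgroup G) →* H₀.comap (F.P j) :=
    ((F.s j).comp (Subgroup.inclusion inf_le_left)).codRestrict _ fun k =>
      show F.P j (F.s j _) ∈ H₀ from (F.sec j _).symm ▸ k.2.2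
  have h0 : IsIrrCharacter (K ⊓ H₀ : Subgroup G) fun k => F.Ψ' j (s' k) := by
    convert hX using 2 with k
    exact F.ext' j _ k.2.2
  have h1 : F.κ j ≤ (H597.Base.ker (F.chr' j)).map (Subgroup.subtype _) := Subgroup.commutator_le.2 fun a ha b hb =>
    ⟨_, sc' s' (F.chr' j) h0 (u := ⟨b, hc hb⟩) (fun k => congrArg (F.Ψ' j) (F.comm_C j hb _)) ⟨a, hc ha⟩, rfl⟩
  obtain ⟨w, hw, h2⟩ := h1 h
  obtain rfl : v = u * w := by rw [show (w : V) = _ from h2, mul_inv_cancel_left]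
  by_cases hu : F.P j u ∈ H₀
  · exact apply_mul_of_eq' (F.chr' j) hw ⟨u, hu⟩
  · rw [F.zero j u hu, F.zero]
    rwa [map_mul, H₀.mul_mem_cancel_right w.2]

end Fam

/-- **The wreath cover.** -/
theorem exists_gam [Finite I] [MulAction G I] {V : Type} [Group V] [Finite V] (T : Subgroup G) {Z : Subgroup G}
    (hZ : Z ≤ Subgroup.center G) (P : I → V →* G) (hP : ∀ t ∈ T, ∀ i, P (t • i) = P i) (g : I → G) :
    ∃ (Γ : Type) (_ : Group Γ) (_ : Finite Γ) (π : Γ →* G) (ζ : Γ →* Z) (c : Γ → I → V),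
      (∀ x y i, c (x * y) i = c x (π y • i) * c y i) ∧ (∀ x, π x ∈ T) ∧
      (∀ x i, P i (c x i) * ζ x = (g (π x • i))⁻¹ * π x * g i) ∧
      ∀ t ∈ T, ∀ (z : Z) (w : I → V), (∀ i, P i (w i) * z = (g (t • i))⁻¹ * t * g i) →
        ∃ x, π x = t ∧ ζ x = z ∧ c x = w := by
  let E := ((I → V) ⋊[mulAutArrow] G) × Z
  have : Finite ((I → V) ⋊[mulAutArrow] G) := Finite.of_equiv _ SemidirectProduct.equivProd.symm
  let π : E →* G := SemidirectProduct.rightHom.comp (MonoidHom.fst _ _)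
  let c : E → I → V := fun x i => x.1.left (π x • i)
  have h1 : ∀ x y i, c (x * y) i = c x (π y • i) * c y i := fun x y i => by
    change x.1.left ((π x * π y) • i) * y.1.left ((π x)⁻¹ • (π x * π y) • i) = _
    rw [mul_smul, inv_smul_smul]
  have h2 : ∀ (z : Z) (x : G), x * z = z * x := fun z => Subgroup.mem_center_iff.1 (hZ z.2)
  let S : Submonoid E :=
    { carrier := {x | π x ∈ T ∧ ∀ i, P i (c x i) * x.2 = (g (π x • i))⁻¹ * π x * g i}
      one_mem' := ⟨T.one_mem, fun i => by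
        change P i 1 * 1 = _
        simp⟩
      mul_mem' := fun {x y} hx hy => ⟨map_mul π x y ▸ T.mul_mem hx.1 hy.1, fun i => by
        have h3 := hx.2 (π y • i)
        rw [hP _ hy.1, ← mul_smul] at h3
        rw [h1, map_mul, map_mul, Prod.snd_mul, Subgroup.coe_mul, ← mul_assoc, mul_assoc _ _ (x.2 : G), h2 x.2,
          ← mul_assoc, h3, mul_assoc, hy.2]
        group⟩ }
  let Γ : Subgroup E :=
    { S with
      inv_mem' := fun {x} hx => (Submonoid.powers_le.2 hx : Submonoid.powers x ≤ S)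
        (mem_powers_iff_mem_zpowers.2 (inv_mem (Subgroup.mem_zpowers x))) }
  refine ⟨Γ, inferInstance, inferInstance, π.comp Γ.subtype, (MonoidHom.snd _ _).comp Γ.subtype, fun x => c x,
    fun x y => h1 x y, fun x => x.2.1, fun x => x.2.2, fun t ht z w h => ?_⟩
  have h3 : c (⟨fun i => w (t⁻¹ • i), t⟩, z) = w := funext fun i => congrArg w (inv_smul_smul t i)
  exact ⟨⟨(⟨fun i => w (t⁻¹ • i), t⟩, z), ht, fun i => h3.symm ▸ h i⟩, rfl, rfl, h3⟩

end Cfsg.Agent.BH.Star
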