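import Cfsg.Agent.BH.Star.TensA
import Cfsg.Agent.BH.Star.TensB
import Cfsg.Agent.TO.Can1

/-!
# BH, box TENS: the match of a central product (helper57)
-/

set_option autoImplicit false
set_option linter.unusedSectionVars false

namespace Cfsg.Agent.BH.Star

open Cfsg Cfsg.Agent Cfsg.Agent.Characters.Core Cfsg.Agent.Blocks Cfsg.Agent.TID.Red Cfsg.Agent.KM.BK Cfsg.Agent.TO

theorem e_mul {V : Type} [Group V] {κ : Subgroup V} (hκ : κ.Normal) {a b a' b' : V} (h : a⁻¹ * b ∈ κ)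
    (h' : a'⁻¹ * b' ∈ κ) : (a * a')⁻¹ * (b * b') ∈ κ := by
  rw [← QuotientGroup.eq] at h h' ⊢
  rw [QuotientGroup.mk_mul, QuotientGroup.mk_mul, h, h']

theorem e_inv {V : Type} [Group V] {κ : Subgroup V} (hκ : κ.Normal) {a b : V} (h : a⁻¹ * b ∈ κ) :
    a⁻¹⁻¹ * b⁻¹ ∈ κ := by
  rw [← QuotientGroup.eq] at h ⊢
  rw [QuotientGroup.mk_inv, QuotientGroup.mk_inv, h]

theorem e_refl {V : Type} [Group V] (κ : Subgroup V) (a : V) : a⁻¹ * a ∈ κ := (inv_mul_cancel a).symm ▸ one_mem κ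

theorem fac {I K W : Type} [Fintype I] [DecidableEq I] [Group K] [Fintype K] [Group W] (s : (I → K) →* W) (w : W)
    {F : W → ℂ} {f : I → K → ℂ} {a : I → ℂ} {l : ℂ} {c : I → ℕ} {m : ℕ}
    (h1 : ∀ k, F (s k * w * (s k)⁻¹) = (∏ i, f i (k i)) * l) (h2 : ∀ i, ∑ k, f i k = c i * a i)
    (h3 : Nat.card ((Cu w).comap s) = m * ∏ i, c i) : ∑ᶠ v ∈ cls s w, F v = (m : ℂ)⁻¹ * l * ∏ i, a i := by
  have h4 := sum_cls s w F
  have h5 : ((m * ∏ i, c i : ℕ) : ℂ) ≠ 0 := Nat.cast_ne_zero.2 (h3 ▸ Nat.card_pos.ne')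
  rw [Finset.sum_congr rfl fun k _ => h1 k, ← Finset.sum_mul, ← Fintype.piFinset_univ, ← Finset.prod_univ_sum,
    Finset.prod_congr rfl fun i _ => h2 i, h3, Finset.prod_mul_distrib] at h4
  apply mul_left_cancel₀ h5
  rw [← h4]
  push_cast at h5 ⊢
  have h6 := left_ne_zero_of_mul h5
  field_simp

variable {G I : Type} [Group G] [Finite G] [MulAction G I] {p : ℕ} [Fact p.Prime] {M : Ideal AlgInt}
  {K H₀ T H N Z : Subgroup G} {g : I → G} {X X' : I → G → ℂ} {θ θ' : G → ℂ}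

/-- **Elements which move a factor.** -/
theorem mov [Fintype I] (d : TData p M K H₀ T H N Z g X X' θ θ') {W : Type} [Group W] [Finite W] (P : Pre T N H θ θ' W) {w : W}
    {i : I} (hi : P.π w • i ≠ i) : MemLocalIdeal M (∑ᶠ v ∈ cls P.s w, P.ψ v / θ 1) ∧
      MemLocalIdeal M (∑ᶠ v ∈ cls P.s w ∩ {v | P.π v ∈ H}, P.ψ' v / θ' 1) := by
  have := Local.isPrime_of_isPModular d.hM
  have h0 : ∀ v, P.π v ∈ T := fun v => P.range.le ⟨v, rfl⟩
  have h1 : Function.Injective P.s := fun a b h => Subtype.ext (by rw [← P.sec, h, P.sec])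
  have h2 : ∀ v ∈ cls P.s w, ∀ (b : K) (k : ℕ) (n : N), (n : G) = em K (g i) b → b ^ p ^ k = 1 →
      P.s n * v = v * P.s n → b = 1 := by
    rintro _ ⟨a, rfl⟩ b k n hn hb h
    have h3 := congrArg P.π h
    rw [map_mul, map_mul P.π _ (P.s n), P.sec, hn] at h3
    refine eq_one_of_move d (h0 _) (i := i) ?_ hb h3
    rwa [map_mul, map_mul, map_inv, P.sec, mul_smul, mul_smul, d.fix _ a.2, d.fix _ (inv_mem a.2)]
  have h3 : ∀ n ∈ N, (g i)⁻¹ * n * g i ∈ Subgroup.normalizer (K : Set G) := fun n hn => by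
    simpa [d.fix n hn] using d.nrm n (d.le hn) i
  have h4 : ∀ n k : G, g i * ((g i)⁻¹ * n * g i * k * ((g i)⁻¹ * n * g i)⁻¹) * (g i)⁻¹ =
      n * (g i * k * (g i)⁻¹) * n⁻¹ := fun n k => by group
  have h5 : Function.Injective (em K (g i)) := (MulAut.conj (g i)).injective.comp K.subtype_injective
  constructor
  · rw [show θ 1 = P.ψ 1 by simpa using (P.ext 1).symm]
    refine van d.hM h1 (of_normal P.normal w) (isCharacter_comp (Subgroup.subtype _) (isIrr_isCharacter P.irr))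
      (by simpa only [P.ext] using d.irr) (ι := (em K (g i)).codRestrict N fun k => conj_mem d i k.2)
      (fun a b h => h5 (congrArg Subtype.val h)) ⟨?_⟩ (d.irrX i) (Perm.Pr.ov (fun k => ?_) ?_ (d.irrX i)) (d.pos i)
      fun v hv b k => h2 v hv b k _ rfl
    · rintro _ ⟨k, rfl⟩ n
      exact ⟨⟨_, (Subgroup.mem_normalizer_iff.1 (h3 n n.2) k).1 k.2⟩, Subtype.ext (h4 n k)⟩
    · simp only [P.ext]
      exact d.pr i k k.2
    · simp only [P.ext]
      exact (isIrr_apply_one_ne_zero d.irr :)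
  · let s := P.s.comp (Subgroup.inclusion (inf_le_left : N ⊓ H ≤ N))
    have h6 : ∀ n, P.ψ' (s n) = θ' n := fun n => P.ext' _ n.2.2
    have h7 : ∀ n, P.π (s n) = n := fun n => P.sec _
    rw [show θ' 1 = P.ψ' 1 by simpa using (h6 1).symm]
    refine mem_of_cls (s := s) _ ?_ fun v hv => van d.hM (h1.comp (Subgroup.inclusion_injective _)) (fun a => ?_)
      (isCharacter_comp (Subgroup.inclusion (?_ : XX s v ≤ H.comap P.π)) (isIrr_isCharacter P.irr'))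
      (by simpa only [h6] using d.irr') (ι := ((em K (g i)).comp (Subgroup.inclusion inf_le_left)).codRestrict (N ⊓ H)
        fun k : (K ⊓ H₀ : Subgroup G) => ⟨conj_mem d i k.2.1, d.mem i k k.2.1 k.2.2⟩)
      (fun a b h => Subgroup.inclusion_injective _ (h5 (congrArg Subtype.val h))) ⟨?_⟩ (d.irrX' i)
      (Perm.Pr.ov (fun k => ?_) ?_ (d.irrX' i)) (d.pos' i) fun u ⟨a, hu⟩ b k hb h => Subgroup.inclusion_injective
        inf_le_left ((h2 u (cls_eq hv.1 ▸ ⟨_, hu⟩) _ k _ rfl (by rw [← map_pow, hb, map_one]) h).trans (map_one _).symm)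
    · rintro v hv _ ⟨a, rfl⟩
      refine ⟨cls_eq hv.1 ▸ ⟨_, rfl⟩, ?_⟩
      change P.π _ ∈ H
      rw [map_mul, map_mul, map_inv, h7]
      exact H.mul_mem (H.mul_mem a.2.2 hv.2) (H.inv_mem a.2.2)
    · obtain ⟨n, e1, e2⟩ := conj_sec P.sec (of_normal P.normal) v (Subgroup.inclusion inf_le_left a)
      exact ⟨⟨n, n.2, e2 ▸ H.mul_mem (H.mul_mem hv.2 a.2.2) (H.inv_mem hv.2)⟩, e1⟩
    · refine sup_le ?_ (Subgroup.zpowers_le.2 hv.2)
      rintro _ ⟨a, rfl⟩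
      exact show P.π (s a) ∈ H from (h7 a).symm ▸ a.2.2
    · rintro _ ⟨k, rfl⟩ n
      have h8 := loc' d ⟨d.le n.2.1, n.2.2⟩ (d.fix _ n.2.1 i)
      exact ⟨⟨_, (Subgroup.mem_normalizer_iff.1 (h3 n n.2.1) k).1 k.2.1,
        H₀.mul_mem (H₀.mul_mem h8 k.2.2) (H₀.inv_mem h8)⟩, Subtype.ext (h4 n k)⟩
    · simp only [h6]
      exact d.pr' i k k.2
    · simp only [h6]
      exact (isIrr_apply_one_ne_zero d.irr' :)

theorem core [Fintype I] [Fintype K] {r : I → I}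
    (d : TData p M K H₀ T H N Z g (fun i => X (r i)) (fun i => X' (r i)) θ θ') (hr : ∀ t ∈ T, ∀ i, r (t • i) = r i)
    {V : Type} [Group V] [Finite V] (F : Fam p M K H₀ X X' V)
    (hs : ∀ i, ∀ y ∈ Subgroup.normalizer (K : Set G), g i * y * (g i)⁻¹ ∈ T → y ∈ (F.P (r i)).range)
    (hg : ∀ t ∈ T, ∀ i, g i * (g (t • i))⁻¹ ∈ T) :
    HasMatch p M T N H θ θ' := by
  classical
  have := Local.isPrime_of_isPModular d.hM
  obtain ⟨Γ, _, _, π, ζ, c, c1, c2, c3, c4⟩ :=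
    exists_gam T d.cen (fun i => F.P (r i)) (fun t ht i => by rw [hr t ht]) g
  obtain ⟨l, hl, p1, p2⟩ := prods d
  have z1 : ∀ x, (ζ x : G) ∈ H₀ := fun x => d.ce (z_ce d (ζ x).2)
  let σ : Γ →* Equiv.Perm I := (MulAction.toPermHom G I).comp π
  obtain ⟨Φ, f1, f2⟩ := tind_fam σ r (fun x i => hr _ (c2 x) i) (fun _ => ⊤) c c1 (fun _ _ => trivial) (Ψ := F.Ψ)
    fun j => isCharacter_comp (Subgroup.subtype _) (F.chr j)
  obtain ⟨Φ', f1', f2'⟩ := tind_fam (σ.comp (H.comap π).subtype) r (fun x i => hr _ (c2 x) i)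
    (fun j => H₀.comap (F.P j)) (fun x => c x) (fun x y => c1 x y) (fun x i =>
      (H₀.mul_mem_cancel_right (z1 x)).1 (c3 x i ▸ d.loc _ ⟨c2 x, x.2⟩ i)) F.chr'
  have c5 : ∀ i, c 1 i = 1 := fun i => by
    have h := c1 1 1 i
    rw [mul_one, map_one, one_smul] at h
    exact mul_eq_left.1 h.symm
  have c6 : ∀ x i, c x⁻¹ (π x • i) = (c x i)⁻¹ := fun x i => eq_inv_of_mul_eq_one_left (by
    rw [← c1, inv_mul_cancel, c5])
  have c7 : ∀ x y i, π y • i = i → c (x * y * x⁻¹) (π x • i) = c x i * c y i * (c x i)⁻¹ := fun x y i h => by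
    rw [c1, c6, map_inv, inv_smul_smul, c1, h]
  have m1 : ∀ {x k}, π x = mu d k * ζ x → π x ∈ N := fun {x k} h => h ▸ mul_mem (mu_mem d k) (z_le d (ζ x).2)
  let L : Subgroup Γ :=
    { carrier := {x | ∃ k, π x = mu d k * ζ x ∧ ∀ i, (F.s (r i) (k i))⁻¹ * c x i ∈ F.κ (r i)}
      one_mem' := ⟨1, by simp, fun i => by simp [c5]⟩
      mul_mem' := fun {x y} ⟨k, h1, h2⟩ ⟨k', h3, h4⟩ => ⟨k * k', by
        rw [map_mul, map_mul, map_mul, h1, h3, Subgroup.coe_mul, mul_assoc, ← mul_assoc (ζ x : G),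
          ← z_comm d (ζ x).2, mul_assoc, mul_assoc], fun i => by
        rw [c1, d.fix _ (m1 h3), Pi.mul_apply, map_mul]
        exact e_mul (F.κ_normal _) (h2 i) (h4 i)⟩
      inv_mem' := fun {x} ⟨k, h1, h2⟩ => ⟨k⁻¹, by
        rw [map_inv, map_inv, map_inv, h1, z_comm d (ζ x).2, mul_inv_rev, Subgroup.coe_inv], fun i => by
        have h3 := c6 x i
        rw [d.fix _ (m1 h1)] at h3
        rw [h3, Pi.inv_apply, map_inv]
        exact e_inv (F.κ_normal _) (h2 i)⟩ }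
  have z2 : ∀ x y, ζ (x * y * x⁻¹) = ζ y := fun x y => by
    rw [map_mul, map_mul, map_inv, mul_inv_eq_iff_eq_mul]
    exact Subtype.ext (z_comm d (ζ y).2 _)
  have : L.Normal := ⟨fun y ⟨k, h1, h2⟩ x => by
    choose k' e1 e2 using fun i => conj_sec (F.sec (r i)) (F.conj (r i)) (c x i) (k i)
    refine ⟨fun j => k' ((π x)⁻¹ • j), ?_, fun j => ?_⟩
    · rw [mu_conj d (c2 x) (k := k) fun i => ?_, z2, map_mul, map_mul, map_inv, h1, mul_assoc, mul_assoc,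
        ← z_comm d (ζ y).2]
      · group
      · rw [inv_smul_smul, e2, ← c3, mul_assoc _ (ζ x : G), ← z_comm d (ζ x).2]
        group
    · obtain ⟨i, rfl⟩ : ∃ i, π x • i = j := ⟨_, smul_inv_smul _ j⟩
      beta_reduce
      rw [hr _ (c2 x), c7 x y i (d.fix _ (m1 h1) i), inv_smul_smul, ← e1]
      exact e_mul (F.κ_normal _) (e_mul (F.κ_normal _) (e_refl _ _) (h2 i)) (e_refl _ _)⟩
  have lift : ∀ k (z : Z), ∃ x, π x = mu d k * z ∧ ζ x = z ∧ ∀ i, (F.s (r i) (k i))⁻¹ * c x i ∈ F.κ (r i) := by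
    intro k z
    have h1 : mu d k * z ∈ N := mul_mem (mu_mem d k) (z_le d z.2)
    have h2 : ∀ i, (k i : G)⁻¹ * ((g i)⁻¹ * mu d k * g i) ∈ (F.κ (r i)).map (F.P (r i)) := fun i =>
      proj d i (fun j hj x hx => by
        have h3 : cj (g i)⁻¹ (cj (g j) K) ≤ Ce K := by
          rintro _ ⟨y, hy, rfl⟩
          simpa using ce_of_ne d hj hy
        refine F.le_map (r i) (by rw [← Subgroup.map_commutator, ← Subgroup.map_commutator, d.perf]) h3
          (fun y hy => hs i y (Subgroup.centralizer_le_normalizer _ (h3 hy)) ?_) ⟨x, hx, by simp⟩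
        obtain ⟨y, hy, rfl⟩ := hy
        simpa [mul_assoc] using d.le (cj_le d j hy)) k
    choose u h3 h4 using h2
    obtain ⟨x, h5, h6, h7⟩ := c4 _ (d.le h1) z (fun i => F.s (r i) (k i) * u i) fun i => by
      rw [map_mul, F.sec, h4, d.fix _ h1, mul_inv_cancel_left]
      simp only [mul_assoc, z_comm d z.2 (g i)]
    exact ⟨x, h5, h6, fun i => by simpa [h7] using h3 i⟩
  have k1 : ∀ {x k i}, (F.s (r i) k)⁻¹ * c x i ∈ F.κ (r i) → F.Ψ (r i) (c x i) = X (r i) k := fun h =>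
    (F.Ψ_eq (d.irrX _) h).trans (F.ext _ _)
  have k2 : ∀ x : H.comap π, extendByZero (H.comap π) Φ' x = Φ' x := ClassSum.extendByZero_coe' _ _
  obtain ⟨W, _, _, P, q, q1, q2, q3, q4, q5, q6⟩ := exists_pre (θ := θ) (θ' := θ') π L (ψ := fun x => Φ x * l (ζ x))
    (ψ' := fun x => extendByZero (H.comap π) Φ' x * l (ζ x)) (T := T) (N := N) (H := H)
    (le_antisymm (fun _ ⟨x, h⟩ => h ▸ c2 x) fun t ht => by
      choose u h1 using fun i => hs i _ (d.nrm t ht i) (by simpa [mul_assoc] using T.mul_mem (hg t ht i) ht)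
      exact (c4 t ht 1 u fun i => (mul_one _).trans (h1 i)).imp fun x h => h.1)
    (le_antisymm (fun _ ⟨x, ⟨k, h, _⟩, e⟩ => e ▸ m1 h) fun n hn => by
      obtain ⟨k, z, hz, rfl⟩ := dec' d hn
      obtain ⟨x, h1, h2, h3⟩ := lift k ⟨z, hz⟩
      exact ⟨x, ⟨k, by rw [h1, h2], h3⟩, h1⟩) d.fra
    (isCharacter_mul f1 (isCharacter_comp ζ (isIrr_isCharacter hl)))
    (by
      simp only [k2]
      exact isCharacter_mul f1' (isCharacter_comp (ζ.comp (Subgroup.subtype _)) (isIrr_isCharacter hl)))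
    d.irr d.irr' (fun x ⟨k, h1, h2⟩ => by
      rw [f2 x (d.fix _ (m1 h1)), h1, p1, Finset.prod_congr rfl fun i _ => k1 (h2 i)])
    (fun x ⟨k, h1, h2⟩ hx => by
      have h3 : ∀ i, (k i : G) ∈ H₀ := fun i =>
        mem_of_mu d (ζ x).2 (h1 ▸ loc' d ⟨c2 x, hx⟩ (d.fix _ (m1 h1) i))
      rw [k2 ⟨x, hx⟩, f2' ⟨x, hx⟩ (d.fix _ (m1 h1)), h1, p2 k h3]
      exact congrArg (· * _) (Finset.prod_congr rfl fun i _ =>
        (F.Ψ'_eq d.ce (d.irrX' _) (h2 i)).trans (F.ext' _ _ (h3 i))))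
  refine ⟨W, inferInstance, inferInstance, ⟨⟨P.π, P.s, P.ψ, P.ψ', P.range, P.cen, P.sec, P.normal, P.irr, P.irr', P.ext,
    P.ext', fun w hw => ?_⟩⟩⟩
  by_cases hf : ∀ i : I, P.π w • i = i
  swap
  · obtain ⟨i, hi⟩ := not_forall.1 hf
    exact Local.memLocalIdeal_sub (mov d P hi).1 (mov d P hi).2
  obtain ⟨x, rfl, hx⟩ := KM.Mu.exists_reg_lift q1 hw
  rw [q2] at hf
  have v1 : ∀ y, (∀ i : I, π y • i = i) → P.ψ' (q y) = (∏ i, F.Ψ' (r i) (c y i)) * l (ζ y) := fun y hy => by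
    by_cases h : π y ∈ H
    · rw [q4 y h, k2 ⟨y, h⟩, f2' ⟨y, h⟩ hy]
    · obtain ⟨i, hi⟩ := not_forall.1 (mt (memH d (c2 y) hy) h)
      rw [q5 _ (q2 y ▸ h), Finset.prod_eq_zero (Finset.mem_univ i), zero_mul]
      refine F.zero _ _ fun h1 => hi ?_
      have h2 := H₀.mul_mem h1 (z1 y)
      rwa [c3, hy] at h2
  have v2 : ∀ i, ¬ p ∣ orderOf (c x i) := fun i h => hx (h.trans (orderOf_dvd_of_pow_eq_one (by
    have h1 : ∀ n : ℕ, c (x ^ n) i = c x i ^ n := fun n => by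
      induction n with
      | zero => rw [pow_zero, pow_zero, c5]
      | succ n ih => rw [pow_succ, c1, hf, ih, pow_succ]
    rw [← h1, pow_orderOf_eq_one, c5])))
  choose a a' a1 a2 a3 a4 using fun i => F.cong (r i) _ (v2 i)
  let m : (I → K) →* N := (mu d).codRestrict N (mu_mem d)
  have v3 : cls P.s (q x) = cls (P.s.comp m) (q x) := by
    refine Set.Subset.antisymm ?_ fun _ ⟨k, h⟩ => ⟨_, h⟩
    rintro _ ⟨n, rfl⟩
    obtain ⟨k, z, hz, h⟩ := dec' d n.2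
    obtain rfl : n = m k * ⟨z, z_le d hz⟩ := Subtype.ext h.symm
    refine ⟨k, ?_⟩
    rw [map_mul, mul_assoc _ _ (q x), comm_sec P.sec (of_normal P.normal) (n := ⟨z, z_le d hz⟩) (z_comm d hz _).symm]
    simp [mul_assoc]
  obtain ⟨e, e1, e2⟩ := idx d (c2 x) hf
  have v4 : Nat.card ((Cu (q x)).comap (P.s.comp m)) =
      e * ∏ i, Nat.card ((Cu (F.P (r i) (c x i))).comap K.subtype) := by
    rw [st_eq P.sec (of_normal P.normal), q2]
    refine e2.trans (congrArg _ (Finset.prod_congr rfl fun i _ => ?_))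
    have h1 := c3 x i
    rw [hf] at h1
    rw [← h1]
    refine congrArg (fun S : Subgroup G => Nat.card (S.comap K.subtype)) (Subgroup.ext fun y => ?_)
    simp only [Subgroup.mem_centralizer_singleton_iff]
    rw [← mul_assoc, mul_assoc _ _ y, ← z_comm d (ζ x).2, ← mul_assoc, mul_left_inj]
  have v5 : ∀ k, ∃ y, (P.s.comp m) k * q x * ((P.s.comp m) k)⁻¹ = q y ∧ ζ y = ζ x ∧ (∀ i : I, π y • i = i) ∧
      ∀ i, (F.s (r i) (k i) * c x i * (F.s (r i) (k i))⁻¹)⁻¹ * c y i ∈ F.κ (r i) := fun k => by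
    obtain ⟨n, h1, h2, h3⟩ := lift k 1
    have h4 : π n ∈ N := m1 (h2.symm ▸ h1)
    refine ⟨n * x * n⁻¹, ?_, z2 n x, fun i => ?_, fun i => ?_⟩
    · rw [MonoidHom.comp_apply, q6 n ⟨k, h2.symm ▸ h1, h3⟩ (m k) (h1.trans (mul_one _)), map_mul, map_mul, map_inv]
    · rw [map_mul, map_mul, map_inv, mul_smul, mul_smul, d.fix _ h4, d.fix _ (inv_mem h4), hf]
    · have h5 := c7 n x i (hf i)
      rw [d.fix _ h4] at h5
      rw [h5]
      exact e_mul (F.κ_normal _) (e_mul (F.κ_normal _) (h3 i) (e_refl _ _)) (e_inv (F.κ_normal _) (h3 i))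
  have t1 : θ 1 = (∏ i, X (r i) 1) * l 1 := by simpa using p1 1 1
  have t2 : θ' 1 = (∏ i, X' (r i) 1) * l 1 := by simpa using p2 1 (fun _ => one_mem _) 1
  rw [sum_inter (S' := {v | P.π v ∈ H}) fun v (hv : P.π v ∉ H) => by rw [q5 v hv, zero_div], v3,
    fac _ _ (l := l (ζ x) / l 1) (fun k => ?_) a3 v4, fac _ _ (l := l (ζ x) / l 1) (fun k => ?_) a4 v4, ← mul_sub]
  · refine Local.memLocalIdeal_mul_left (Local.memLocalRing_mul (Local.memLocalRing_inv_natCast d.hM e1) ?_)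
      (prod_sub_prod _ a1 a2)
    rw [← Cn.central_center l (Subgroup.mem_center_iff.2 fun y => Subtype.ext (z_comm d (ζ x).2 _))]
    exact Local.memLocalRing_of_isIntegral (Central.isIntegral_centralChar hl _)
  · obtain ⟨y, h1, h2, h3, h4⟩ := v5 k
    rw [h1, v1 y h3, h2, t2, Finset.prod_congr rfl fun i _ => F.Ψ'_eq d.ce (d.irrX' _) (h4 i), Finset.prod_div_distrib,
      div_mul_div_comm]
  · obtain ⟨y, h1, h2, h3, h4⟩ := v5 k
    rw [h1, q3, f2 y h3, h2, t1, Finset.prod_congr rfl fun i _ => F.Ψ_eq (d.irrX _) (h4 i), Finset.prod_div_distrib,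
      div_mul_div_comm]

end Cfsg.Agent.BH.Star

namespace Cfsg.Agent.BH

open Cfsg.Agent.Blocks

/-- **[TENS]** -/
theorem boxTENS {p : ℕ} [Fact p.Prime] {M : Ideal AlgInt} : BoxTENS p M := by
  intro G I _ _ _ _ K H₀ T H N Z g X X' θ θ' d
  have := Local.isPrime_of_isPModular d.hM
  let _ := Fintype.ofFinite I
  let _ := Fintype.ofFinite K
  obtain ⟨r, h, h1, h2, d'⟩ := Star.norm d
  choose T₀ h3 h4 using d.mat
  obtain ⟨V, _, _, F, h5⟩ := Star.exists_fam h4 d.irrX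
  refine Star.core d' h2 F (fun i y hy e => h5 _ (h3 _ y hy ?_)) fun t ht i => ?_
  · rw [show h i * g (r i) * y * (h i * g (r i))⁻¹ = h i * (g (r i) * y * (g (r i))⁻¹) * (h i)⁻¹ by group] at e
    exact (T.mul_mem_cancel_left (h1 i)).1 ((T.mul_mem_cancel_right (T.inv_mem (h1 i))).1 e)
  · simpa [h2 t ht, mul_assoc] using T.mul_mem (h1 i) (T.inv_mem (h1 (t • i)))

end Cfsg.Agent.BH
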