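import Cfsg.Agent.BH.Star.FinB
import Cfsg.Agent.BH.Star.Tens
import Cfsg.Agent.BH.Star.GL

/-!
# BH, box STAR: the final step (helper94)
-/

set_option autoImplicit false
set_option linter.style.haveILetI false
set_option linter.unusedSectionVars false

namespace Cfsg.Agent.BH.Star.Fin

open Cfsg Cfsg.Agent Cfsg.Agent.Characters.Core Cfsg.Agent.Blocks Cfsg.Agent.TID.Red Cfsg.Agent.KM.BK Cfsg.Agent.TO
open Cfsg.Agent.KM.Mu Cfsg.Agent.SignalizersComponents.Components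
open Cfsg.Agent.H592.Transport (tr)

variable {p : ℕ} [Fact p.Prime] {M : Ideal AlgInt} {G : Type} [Group G] [Finite G]

namespace Su

variable {K N Q : Subgroup G} {B : Set (IrrCharacter G)} {θ Θ : G → ℂ} {a : ℂ}
  {g : G ⧸ Subgroup.normalizer (K : Set G) → G} (s : Su p M K N Q B θ Θ a g)

include s

/-- the factors of a member of the local block, read through `τ` -/
theorem fac {τ : (G → ℂ) → (G → ℂ)}
    (t1 : ∀ χ : G → ℂ, ∀ h ∈ In (Q ⊓ K) θ ⊓ Subgroup.normalizer (K : Set G), τ (χ ∘ MulAut.conj h) = τ χ ∘ MulAut.conj h)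
    (t2 : ∀ χ : G → ℂ, ∀ y, y ∉ K ⊓ In (Q ⊓ K) θ → τ χ y = 0)
    (t3 : ∀ χ χ' : G → ℂ, (fun n : K => χ n) ∈ Fn (cov B K) → (fun n : K => χ' n) ∈ Fn (cov B K) → τ χ = τ χ' →
      ∀ n : K, χ n = χ' n)
    (t4 : ∀ η ∈ LocB M K (Q ⊓ K) θ, ∃ χ : G → ℂ, (fun n : K => χ n) ∈ Fn (cov B K) ∧ (∀ y, y ∉ K → χ y = 0) ∧
      ∀ n : (K ⊓ In (Q ⊓ K) θ : Subgroup G), τ χ n = η.1 n)
    {η : G → ℂ} (hη : (fun n : (N ⊓ In Q Θ : Subgroup G) => η n) ∈ Fn (LocB M N Q Θ)) :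
    ∃ X : G → G → ℂ, (∀ h ∈ In Q Θ, (fun n : K => X h n) ∈ Fn (cov B K) ∧ (∀ y, y ∉ K → X h y = 0) ∧
      IsIrrCharacter (K ⊓ In (Q ⊓ K) θ : Subgroup G) (fun n => τ (X h) n) ∧
      ∀ k ∈ K ⊓ In (Q ⊓ K) θ, η (h * k * h⁻¹) * τ (X h) 1 = η 1 * τ (X h) k) ∧
      (∀ h ∈ In Q Θ, ∀ y ∈ In Q Θ, y ∈ Subgroup.normalizer (K : Set G) → ∀ k, X (h * y) k = X h (y * k * y⁻¹)) ∧
      ∀ h ∈ In Q Θ, ∀ h' ∈ In Q Θ, (∀ k ∈ K ⊓ In (Q ⊓ K) θ, η (h * k * h⁻¹) = η (h' * k * h'⁻¹)) → X h = X h' := by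
  have n0 : η 1 ≠ 0 := (isIrr_apply_one_ne_zero (irr_of hη) :)
  let P : G → (G → ℂ) → Prop := fun h χ => (fun n : K => χ n) ∈ Fn (cov B K) ∧ (∀ y, y ∉ K → χ y = 0) ∧
    IsIrrCharacter (K ⊓ In (Q ⊓ K) θ : Subgroup G) (fun n => τ χ n) ∧
      ∀ k ∈ K ⊓ In (Q ⊓ K) θ, η (h * k * h⁻¹) * τ χ 1 = η 1 * τ χ k
  have ex : ∀ h ∈ In Q Θ, ∃ χ, P h χ := fun h hh => by
    obtain ⟨E, h1, h2⟩ := s.c.loc_down (f := fun x => η (h * x * h⁻¹)) (loc_conj s.c.r hη hh (s.nN h))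
    obtain ⟨χ, h3, h4, h5⟩ := t4 E h1
    refine ⟨χ, h3, h4, (funext h5).symm ▸ E.2, fun k hk => ?_⟩
    have h6 := h2 ⟨k, hk⟩
    rw [← h5, ← h5, mul_one, mul_inv_cancel] at h6
    exact h6
  have un : ∀ h h' χ χ', P h χ → P h' χ' → (∀ k ∈ K ⊓ In (Q ⊓ K) θ, η (h * k * h⁻¹) = η (h' * k * h'⁻¹)) →
      χ = χ' := fun h h' χ χ' h1 h2 h3 => by
    have h4 := t3 χ χ' h1.1 h2.1 (eq_of_pp (F := fun k => η (h * k * h⁻¹)) n0 h1.2.2.1 h2.2.2.1 (t2 χ) (t2 χ')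
      h1.2.2.2 fun k hk => (h3 k hk).symm ▸ h2.2.2.2 k hk)
    funext x
    by_cases hx : x ∈ K
    · exact h4 ⟨x, hx⟩
    · rw [h1.2.1 x hx, h2.2.1 x hx]
  have cn : ∀ h χ, P h χ → ∀ y ∈ In (Q ⊓ K) θ, y ∈ Subgroup.normalizer (K : Set G) →
      P (h * y) (χ ∘ MulAut.conj y) := fun h χ ⟨⟨φ, h1, h2⟩, h3, h4, h5⟩ y hy hK => by
    have n1 : y ∈ Subgroup.normalizer ((K ⊓ In (Q ⊓ K) θ : Subgroup G) : Set G) :=
      Subgroup.inf_normalizer_le_normalizer_inf ⟨hK, Subgroup.le_normalizer hy⟩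
    refine ⟨⟨tr (cjOn K hK) φ, Cmp.stabH_cov B hK φ h1 _ fun k k' e => congrArg φ.1 (Subtype.ext e.symm),
      funext fun n => congrFun h2 _⟩, fun x hx => h3 _ fun h6 => hx ((Subgroup.mem_normalizer_iff.1 hK x).2 h6), ?_,
      fun k hk => ?_⟩
    · rw [t1 χ y ⟨hy, hK⟩]
      exact isIrr_comp (cjOn _ n1).toMonoidHom (cjOn _ n1).surjective h4
    · have h6 := h5 _ ((Subgroup.mem_normalizer_iff.1 n1 k).1 hk)
      rw [t1 χ y ⟨hy, hK⟩, Function.comp_apply, map_one,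
        show h * y * k * (h * y)⁻¹ = h * (y * k * y⁻¹) * h⁻¹ by group]
      exact h6
  choose! X hX using ex
  exact ⟨X, hX, fun h hh y hy hK k => congrFun (un _ _ _ _ (hX _ (mul_mem hh hy))
    (cn h _ (hX h hh) y (s.c.down hy hK) hK) fun _ _ => rfl) k, fun h hh h' hh' => un _ _ _ _ (hX h hh) (hX h' hh')⟩

/-- every member of the local block is matched -/
theorem mat (TENS : BoxTENS p M) (hfr : N ⊔ In Q Θ = ⊤) {τ : (G → ℂ) → (G → ℂ)}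
    (t1 : ∀ χ : G → ℂ, ∀ h ∈ In (Q ⊓ K) θ ⊓ Subgroup.normalizer (K : Set G), τ (χ ∘ MulAut.conj h) = τ χ ∘ MulAut.conj h)
    (t2 : ∀ χ : G → ℂ, ∀ y, y ∉ K ⊓ In (Q ⊓ K) θ → τ χ y = 0)
    (t3 : ∀ χ χ' : G → ℂ, (fun n : K => χ n) ∈ Fn (cov B K) → (fun n : K => χ' n) ∈ Fn (cov B K) → τ χ = τ χ' →
      ∀ n : K, χ n = χ' n)
    (t4 : ∀ η ∈ LocB M K (Q ⊓ K) θ, ∃ χ : G → ℂ, (fun n : K => χ n) ∈ Fn (cov B K) ∧ (∀ y, y ∉ K → χ y = 0) ∧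
      ∀ n : (K ⊓ In (Q ⊓ K) θ : Subgroup G), τ χ n = η.1 n)
    (t5 : ∀ χ : G → ℂ, (fun n : K => χ n) ∈ Fn (cov B K) → (∀ y, y ∉ K → χ y = 0) →
      HasMatch p M (In ⊤ χ ⊓ Subgroup.normalizer (K : Set G)) K (In (Q ⊓ K) θ) χ (τ χ))
    {η : G → ℂ} (hη : (fun n : (N ⊓ In Q Θ : Subgroup G) => η n) ∈ Fn (LocB M N Q Θ))
    (h0 : ∀ x, x ∉ N ⊓ In Q Θ → η x = 0) :
    ∃ ψ : G → ℂ, (fun n : N => ψ n) ∈ Fn (cov B N) ∧ (∀ x, x ∉ N → ψ x = 0) ∧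
      (∀ h ∈ In Q Θ, h ∈ In ⊤ ψ ↔ h ∈ In ⊤ η) ∧ HasMatch p M (In ⊤ ψ) N (In Q Θ) ψ η := by
  have := s.nor
  obtain ⟨X, x1, x2, x3⟩ := s.fac t1 t2 t3 t4 hη
  obtain ⟨ψ, f1, f2, f3⟩ := s.fam (fun i => X (g i)) fun i => (x1 _ (s.gm i)).1
  have i1 := irr_of f1
  have i2 := irr_of hη
  have n0 : ψ 1 ≠ 0 := (isIrr_apply_one_ne_zero i1 :)
  have n1 : η 1 ≠ 0 := (isIrr_apply_one_ne_zero i2 :)
  have hψ : ∀ h ∈ In Q Θ, ∀ k ∈ K, ψ (h * k * h⁻¹) * X h 1 = ψ 1 * X h k := fun h hh k hk => by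
    obtain ⟨i, y, hy, rfl⟩ := s.dec h
    have h1 : y ∈ In Q Θ := (mul_mem_cancel_left (s.gm i)).1 hh
    rw [x2 _ (s.gm i) y h1 hy, x2 _ (s.gm i) y h1 hy, mul_one, mul_inv_cancel,
      show g i * y * k * (g i * y)⁻¹ = g i * (y * k * y⁻¹) * (g i)⁻¹ by group]
    exact f3 i _ ((Subgroup.mem_normalizer_iff.1 hy k).1 hk)
  have st : ∀ h ∈ In Q Θ, h ∈ In ⊤ ψ ↔ h ∈ In ⊤ η := fun h hh => by
    have e : ∀ i k, h * (g i * k * (g i)⁻¹) * h⁻¹ = h * g i * k * (h * g i)⁻¹ := fun i k => by group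
    refine ⟨fun h1 => fix_of s.commH s.supH i2 h0 (s.nNH hh) ?_, fun h1 => fix_of s.comm s.sup i1 f2 (s.nN h) ?_⟩
    · rintro i _ ⟨k, hk, rfl⟩
      have h2 := x1 _ (mul_mem hh (s.gm i))
      have h3 := x1 _ (s.gm i)
      have h4 : X (h * g i) = X (g i) := eq_of_pp (F := fun k => ψ (g i * k * (g i)⁻¹)) n0 (irr_of h2.1) (irr_of h3.1)
        h2.2.1 h3.2.1 (fun l hl => by
          rw [← hψ _ (mul_mem hh (s.gm i)) l hl, ← e]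
          exact congrArg (· * _) (h1.2 _).symm) (hψ _ (s.gm i))
      apply mul_right_cancel₀ (isIrr_apply_one_ne_zero h3.2.2.1 :)
      have h5 := h2.2.2.2 k hk
      rw [h4, ← e] at h5
      exact h5.trans (h3.2.2.2 k hk).symm
    · rintro i _ ⟨k, hk, rfl⟩
      have h4 : X (h * g i) = X (g i) := x3 _ (mul_mem hh (s.gm i)) _ (s.gm i) fun l _ => (e i l) ▸ h1.2 _
      apply mul_right_cancel₀ (isIrr_apply_one_ne_zero (irr_of (x1 _ (s.gm i)).1) :)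
      have h5 := hψ _ (mul_mem hh (s.gm i)) k hk
      rw [h4, ← e] at h5
      exact h5.trans (hψ _ (s.gm i) k hk).symm
  have hle : N ≤ In ⊤ ψ := fun n hn => Cmp.mem_In_iff.2 ⟨fun _ => iff_of_true trivial trivial, fun x => by
    by_cases hx : x ∈ N
    · exact isIrr_isClassFunction i1 ⟨x, hx⟩ ⟨n, hn⟩
    · rw [f2 x hx, f2 _ fun h2 => hx ((Subgroup.mem_normalizer_iff.1 (s.nN n) x).2 h2)]⟩
  refine ⟨ψ, f1, f2, st, TENS G _ K (In (Q ⊓ K) θ) _ _ N (Subgroup.center G) g (fun i => X (g i))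
    (fun i => τ (X (g i))) ψ η ⟨s.c.r.can.hM, s.perf, s.zp, s.c.ce_In, s.comm, le_rfl, s.sup, hle, fun t ht => ?_,
    s.zH.trans inf_le_right, fun n hn i => ?_, fun i k hk hk' => ?_, fun h hh i => ?_, fun t _ i => s.nrm t i, i1, i2,
    fun i => irr_of (x1 _ (s.gm i)).1, fun i => (x1 _ (s.gm i)).2.2.1, f3, fun i => (x1 _ (s.gm i)).2.2.2,
    fun z hz => ?_, fun t ht n _ => ht.2 n, fun h hh n _ => ((st h hh.2).1 hh.1).2 n,
    fun i => ⟨_, fun y hy h1 => Subgroup.mem_inf.2 ⟨?_, hy⟩, t5 _ (x1 _ (s.gm i)).1 (x1 _ (s.gm i)).2.1⟩,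
    fun i => s.pos (x1 _ (s.gm i)).1, fun i => s.pos' (x1 _ (s.gm i)).2.2.1⟩⟩
  · obtain ⟨n, hn, h, hh, rfl⟩ := Subgroup.mem_sup_of_normal_left.1 (hfr ▸ Subgroup.mem_top t)
    exact Subgroup.mul_mem_sup hn ⟨(mul_mem_cancel_left (hle hn)).1 ht, hh⟩
  · rw [← s.gk i]
    refine (QuotientGroup.eq.2 ?_ : (QuotientGroup.mk (n * g i) : G ⧸ Subgroup.normalizer (K : Set G)) = _)
    have h1 := s.c.nrm (s.nor.conj_mem _ (inv_mem hn) (g i)⁻¹)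
    simpa [mul_assoc] using h1
  · exact mul_mem (mul_mem (s.gm i) (Subgroup.mem_inf.1 (s.c.up ⟨hk, hk'⟩)).2) (inv_mem (s.gm i))
  · exact s.c.down (mul_mem (mul_mem (inv_mem (s.gm _)) (Subgroup.mem_inf.1 hh).2) (s.gm i)) (s.nrm h i)
  · have h1 : IsPRegular p z := fun h => s.zG (h.trans ((Subgroup.center G).orderOf_dvd_natCard hz))
    have h2 := loc_cen s.c.r hη hz (s.zN hz) h1
    have h3 := s.c.r.can.cent (z := ⟨z, s.zN hz⟩)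
      (Subgroup.mem_center_iff.2 fun y => Subtype.ext (Subgroup.mem_center_iff.1 hz y))
      (fun h => h1 (by rwa [← Subgroup.orderOf_coe] at h)) f1 1
    rw [mul_one] at h3
    change Θ z * ψ 1 = ψ z * Θ 1 at h3
    have n2 : Θ 1 ≠ 0 := (isIrr_apply_one_ne_zero (irrC s.c.r) :)
    rw [div_eq_div_iff n1 n2] at h2
    apply mul_right_cancel₀ n2
    linear_combination (-η 1) * h3 - ψ 1 * h2
  · refine Cmp.mem_In_iff.2 ⟨fun _ => iff_of_true trivial trivial, fun x => ?_⟩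
    by_cases hx : x ∈ K
    · apply mul_left_cancel₀ n0
      rw [← f3 i x hx, ← f3 i _ ((Subgroup.mem_normalizer_iff.1 hy x).1 hx), ← h1.2 (g i * x * (g i)⁻¹)]
      congr 2
      change _ = g i * y * (g i)⁻¹ * (g i * x * (g i)⁻¹) * (g i * y * (g i)⁻¹)⁻¹
      group
    · rw [(x1 _ (s.gm i)).2.1 x hx, (x1 _ (s.gm i)).2.1 _ fun h2 => hx ((Subgroup.mem_normalizer_iff.1 hy x).2 h2)]

/-- the inertial fixed points centralize all conjugates -/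
theorem zr (hz : Zr K (Q ⊓ K) θ = ⊥) : Zr N Q Θ ≤ Ce N := fun x hx => by
  obtain ⟨h1, h2⟩ := zr_mem.1 hx
  refine Subgroup.le_centralizer_iff.1 (s.sup.le.trans (sup_le (iSup_le fun i => ?_)
    (Subgroup.center_le_centralizer _))) (Subgroup.mem_zpowers x)
  rintro _ ⟨k, hk, rfl⟩
  have h3 : (g i)⁻¹ * x * (g i)⁻¹⁻¹ ∈ Q := ((inv_mem (s.gm i) : (g i)⁻¹ ∈ In Q Θ).1 x).2 h1
  obtain ⟨l, hl, h4⟩ := s.c.key _ h3
  have h5 : l ∈ Zr K (Q ⊓ K) θ := zr_mem.2 ⟨hl, fun t ht hK => by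
    have h6 := (Subgroup.mem_normalizer_iff.1 (s.nNH (s.gm i)) t).1 (s.c.up ⟨hK, ht⟩)
    have h7 := h2 _ h6.2 h6.1
    have h8 : t * (l⁻¹ * ((g i)⁻¹ * x * (g i)⁻¹⁻¹)) = l⁻¹ * ((g i)⁻¹ * x * (g i)⁻¹⁻¹) * t := h4 t hK
    have h9 : t * ((g i)⁻¹ * x * (g i)⁻¹⁻¹) = (g i)⁻¹ * x * (g i)⁻¹⁻¹ * t := by
      calc _ = (g i)⁻¹ * (g i * t * (g i)⁻¹ * x) * g i := by group
        _ = _ := by rw [h7]; group
    rw [mul_assoc l⁻¹, ← h9, ← mul_assoc, ← mul_assoc l⁻¹] at h8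
    have h10 := mul_right_cancel h8
    calc t * l = l * (l⁻¹ * t) * l := by group
      _ = _ := by rw [← h10]; group⟩
  rw [hz, Subgroup.mem_bot] at h5
  rw [h5, inv_one, one_mul] at h4
  have h6 : k * ((g i)⁻¹ * x * (g i)⁻¹⁻¹) = (g i)⁻¹ * x * (g i)⁻¹⁻¹ * k := h4 k hk
  refine (Subgroup.zpowers_le.2 (Subgroup.mem_centralizer_singleton_iff.2 ?_) :
    Subgroup.zpowers x ≤ Subgroup.centralizer {g i * k * (g i)⁻¹}).trans' le_rfl |> fun h y hy =>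
      Subgroup.mem_centralizer_singleton_iff.1 (h hy)
  calc x * (g i * k * (g i)⁻¹) = g i * ((g i)⁻¹ * x * (g i)⁻¹⁻¹ * k) * (g i)⁻¹ := by group
    _ = _ := by rw [← h6]; group

end Su

end Cfsg.Agent.BH.Star.Fin

namespace Cfsg.Agent.BH

open Cfsg Cfsg.Agent Cfsg.Agent.TID.Red Cfsg.Agent.KM.BK Cfsg.Agent.TO Cfsg.Agent.SignalizersComponents.Components
open Star.Fin

/-- **[STAR]** from the sub-boxes -/
theorem boxSTAR_of {p : ℕ} [Fact p.Prime] {M : Ideal AlgInt} (S1R : BoxS1R p M) (TENS : BoxTENS p M)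
    (hGL : BoxGL p M) (CMP : BoxCMP p M) : BoxSTAR p M := by
  intro G _ _ B D m hO K hK hKt θ₀ r₀ hs hz₀
  by_contra h3
  have hcj : ∀ x y : G, cj x (cj y K) = cj (x * y) K := fun x y => by
    refine (Subgroup.map_map _ _ _).trans ?_
    congr 1
    ext z
    simp [mul_assoc]
  obtain ⟨N, hN⟩ : ∃ N, N = (⨆ x, cj x K) ⊔ Subgroup.center G := ⟨_, rfl⟩
  have hKN : K ≤ N := hN ▸ fun k hk => Subgroup.mem_sup_left (Subgroup.mem_iSup_of_mem 1 ⟨k, hk, by simp⟩)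
  have hZ : Subgroup.center G ≤ N := hN ▸ le_sup_right
  have n1 : (⨆ x, cj x K).Normal := ⟨fun n hn y => by
    have h1 : (⨆ x, cj x K) ≤ (⨆ x, cj x K).comap (MulAut.conj y).toMonoidHom := iSup_le fun x =>
      Subgroup.map_le_iff_le_comap.1 ((hcj y x).le.trans (le_iSup (fun x => cj x K) _))
    exact h1 hn⟩
  have : N.Normal := hN ▸ inferInstance
  have hL : N ≤ layer G ⊔ Subgroup.center G :=
    hN ▸ sup_le_sup_right (iSup_le fun x => component_le_layer (isComponent_conj x hK)) _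
  have hNt : N ≠ ⊤ := by
    obtain ⟨N', h1, h2, h4, -, h5⟩ := Cmp.exists_N m hO hK hKt
    refine fun h => h5 (top_le_iff.1 (h ▸ hN ▸ sup_le (iSup_le fun x => ?_) h4))
    rintro _ ⟨k, hk, rfl⟩
    exact h1.conj_mem k (h2 hk) x
  have hne := ((CMP G B D m hO).2.2 K hK hKt).1
  have h2 : D ⊓ N ⊓ K = D ⊓ K := by rw [inf_assoc, inf_eq_right.2 hKN]
  refine hGL G B D m hO N (lt_of_le_not_ge hZ fun h => Cmp.not_ab hK fun x _ y hy =>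
    Subgroup.mem_center_iff.1 (h (hKN hy)) x) (m.ab N hNt)
    (fun h => hne (le_bot_iff.1 (h ▸ inf_le_inf_left D hKN))) fun Θ r => ?_
  have hcp := hL.trans (Cmp.layer_le hK)
  have key : ∀ x ∈ D ⊓ N, ∃ k ∈ D ⊓ N ⊓ K, k⁻¹ * x ∈ Ce K := fun x hx => h2 ▸ Cmp.key m hO hK hx.1 (hL hx.2)
  obtain ⟨θ, a, ha, h4, r0⟩ := Cmp.root_down hKN hcp r key
  rw [← Cmp.cov_eq] at r0
  have c : Cx p M K N (D ⊓ N) (cov B K) (cov B N) θ Θ a := ⟨hKN, hcp, key, r, r0, ha, h4⟩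
  have hz : Zr K (D ⊓ N ⊓ K) θ = ⊥ := zr_bot (h2.symm ▸ r₀) r0 (h2.symm ▸ hz₀)
  have hfr := frat r
  have ex : ∀ i : G ⧸ Subgroup.normalizer (K : Set G), ∃ h ∈ In (D ⊓ N) Θ, QuotientGroup.mk h = i := fun i => by
    obtain ⟨h, hh, n, hn, e⟩ := Subgroup.mem_sup_of_normal_right.1 (sup_comm N _ ▸ hfr ▸ Subgroup.mem_top i.out)
    refine ⟨h, hh, (QuotientGroup.eq.2 ?_).trans i.out_eq'⟩
    rw [← e, inv_mul_cancel_left]
    exact c.nrm hn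
  choose g gm gk using ex
  have h5 : ∀ x y : G, cj x K = cj y K ↔ x⁻¹ * y ∈ Subgroup.normalizer (K : Set G) := fun x y => by
    rw [Subgroup.mem_normalizer_iff_map_conj_eq]
    constructor
    · intro h
      change cj (x⁻¹ * y) K = K
      rw [← hcj, ← h, hcj, inv_mul_cancel]
      ext z
      simp
    · intro h
      rw [← mul_inv_cancel_left x y, ← hcj x, show cj (x⁻¹ * y) K = K from h]
  have s : Su p M K N (D ⊓ N) B θ Θ a g := ⟨c, this, gm, gk, hN.trans (congrArg (· ⊔ _) (le_antisymm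
    (iSup_le fun x => le_iSup_of_le (QuotientGroup.mk x) ((h5 _ _).2 (QuotientGroup.eq.1 (gk _))).ge)
    (iSup_le fun i => le_iSup (fun x => cj x K) _))), fun i j h => component_le_centralizer_of_ne
      (isComponent_conj _ hK) (isComponent_conj _ hK) fun e => h (by
        rw [← gk i, ← gk j]
        exact QuotientGroup.eq.2 ((h5 _ _).1 e)), Subgroup.isPerfect_iff.1 hK.2.1, Cmp.zp_comp m hO hK, m.zp,
    h2.symm ▸ hne⟩
  obtain ⟨τ, t1, t2, t3, t4, t5⟩ := S1R m.km G K _ _ θ r0 (fun y hy => by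
    obtain ⟨n, hn, h, hh, rfl⟩ := Subgroup.mem_sup_of_normal_left.1 (hfr ▸ Subgroup.mem_top y)
    obtain ⟨k, hk, d, hd, rfl⟩ := exists_mul_of_le_centralizer le_rfl (hcp hn)
    have h6 := (mul_mem_cancel_left (c.nrm hn)).1 hy
    rw [mul_assoc]
    exact Subgroup.mul_mem_sup hk (mul_mem ⟨c.ce_In hd, Subgroup.centralizer_le_normalizer _ hd⟩ ⟨c.down hh h6, h6⟩))
    (h2.symm ▸ hs) hz h3
  refine ⟨eq_bot_iff.2 fun x hx => Cmp.eq_one m hx.1.1 (Cmp.le_center m hO (N ⊓ Ce N)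
    (fun y hy z hz => hz.2 y hy.1) ⟨hx.1.2, s.zr hz hx⟩), fun η hη h0 => s.mat TENS hfr t1 t2 t3 t4 t5 hη h0⟩

/-- **[STAR]** -/
theorem boxSTAR {p : ℕ} [Fact p.Prime] {M : Ideal AlgInt} (S1 : BoxS1 p M) (SPL : BoxSPL p M) (TT : BoxTT p M)
    (CMP : BoxCMP p M) : BoxSTAR p M :=
  boxSTAR_of (boxS1R S1) boxTENS (boxGL SPL TT) CMP

end Cfsg.Agent.BH
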