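import Cfsg.Agent.BH.Star.Prod
import Cfsg.Agent.KM.Mu.B
import Cfsg.Agent.CharactersDeep.MaxInduced

/-!
# BH, box STAR: sums over the classes `cls s w` (helper57)

* `sum_cls` : the sum over the acting group;  `cls_cc`, `cls_int` : the class sum is a central character;
* `van` : the class sum vanishes if no `p`-element of a subnormal subgroup of positive defect is centralized;
* `mem_of_cls` : sums over invariant sets.
-/

set_option autoImplicit false
set_option linter.unusedSectionVars false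

namespace Cfsg.Agent.BH.Star

open Cfsg Cfsg.Agent Cfsg.Agent.Characters.Core Cfsg.Agent.Blocks Cfsg.Agent.TID.Red Cfsg.Agent.KM.BK Cfsg.Agent.TO

variable {A W : Type} [Group A] [Group W]

theorem mem_cls {s : A →* W} {w v : W} : v ∈ cls s w ↔ ∃ n : A, v = s n * w * (s n)⁻¹ := Iff.rfl

theorem self_mem_cls (s : A →* W) (w : W) : w ∈ cls s w := ⟨1, by simp⟩

theorem cls_eq {s : A →* W} {w v : W} (h : v ∈ cls s w) : cls s v = cls s w := by
  obtain ⟨a, rfl⟩ := h
  ext u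
  exact ⟨fun ⟨b, hb⟩ => ⟨b * a, by rw [hb, map_mul]; group⟩, fun ⟨b, hb⟩ => ⟨b * a⁻¹, by
    rw [hb, map_mul, map_inv]; group⟩⟩

theorem sum_cls [Fintype A] (s : A →* W) (w : W) (F : W → ℂ) :
    ∑ a, F (s a * w * (s a)⁻¹) = Nat.card ((Cu w).comap s) * ∑ᶠ v ∈ cls s w, F v := by
  classical
  have h1 : cls s w = ↑(Finset.univ.image fun a => s a * w * (s a)⁻¹) := by
    ext v
    simp [mem_cls, eq_comm]
  rw [h1, finsum_mem_coe_finset, Finset.mul_sum, ← Finset.sum_fiberwise_of_maps_to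
    (g := fun a => s a * w * (s a)⁻¹) fun a _ => Finset.mem_image_of_mem _ (Finset.mem_univ a)]
  refine Finset.sum_congr rfl fun v hv => ?_
  obtain ⟨b, -, rfl⟩ := Finset.mem_image.1 hv
  rw [Finset.sum_congr rfl fun a ha => congrArg F (Finset.mem_filter.1 ha).2, Finset.sum_const, nsmul_eq_mul]
  congr 2
  rw [← Nat.card_eq_finsetCard]
  refine Nat.card_congr (Equiv.subtypeEquiv (Equiv.mulLeft b⁻¹) fun a => ?_)
  rw [Finset.mem_filter, and_iff_right (Finset.mem_univ a), Subgroup.mem_comap,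
    Subgroup.mem_centralizer_singleton_iff, Equiv.coe_mulLeft, map_mul, map_inv]
  constructor
  · intro h
    calc (s b)⁻¹ * s a * w = (s b)⁻¹ * (s a * w * (s a)⁻¹) * s a := by group
      _ = _ := by rw [h]; group
  · intro h
    calc s a * w * (s a)⁻¹ = s b * ((s b)⁻¹ * s a * w) * (s a)⁻¹ := by group
      _ = _ := by rw [h]; group

/-- the group generated by the image of `s` and `w` -/
abbrev XX (s : A →* W) (w : W) : Subgroup W := s.range ⊔ Subgroup.zpowers w

/-- the embedding into `XX s w` -/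
def sX (s : A →* W) (w : W) : A →* XX s w := s.codRestrict _ fun a => Subgroup.mem_sup_left ⟨a, rfl⟩

/-- `w` as an element of `XX s w` -/
def wX (s : A →* W) (w : W) : XX s w := ⟨w, Subgroup.mem_sup_right (Subgroup.mem_zpowers w)⟩

variable [Finite A] [Finite W] {s : A →* W} {w : W} {ψ : W → ℂ}

theorem normal_sX (hw : ∀ a, ∃ a', w * s a * w⁻¹ = s a') : (sX s w).range.Normal := by
  have h1 : XX s w ≤ Subgroup.normalizer (s.range : Set W) := sup_le Subgroup.le_normalizer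
    (Subgroup.zpowers_le.2 (Subgroup.mem_normalizer_fintype fun _ ⟨a, ha⟩ => by
      obtain ⟨a', h⟩ := hw a
      exact ⟨a', ha ▸ h.symm⟩))
  refine ⟨fun _ ⟨a, ha⟩ x => ?_⟩
  obtain ⟨b, hb⟩ := (Subgroup.mem_normalizer_iff.1 (h1 x.2) _).1 ⟨a, rfl⟩
  exact ⟨b, Subtype.ext (ha ▸ hb)⟩

theorem conj_wX (hw : ∀ a, ∃ a', w * s a * w⁻¹ = s a') {y : XX s w} (h : IsConj (wX s w) y) : (y : W) ∈ cls s w := by
  have := normal_sX hw
  obtain ⟨x, rfl⟩ := isConj_iff.1 h
  have h1 : (sX s w).range ⊔ Subgroup.zpowers (wX s w) = ⊤ := by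
    apply Subgroup.map_injective (XX s w).subtype_injective
    rw [Subgroup.map_sup, MonoidHom.map_zpowers, MonoidHom.map_range, ← MonoidHom.range_eq_map, Subgroup.range_subtype]
    rfl
  obtain ⟨_, ⟨a, rfl⟩, _, ⟨k, rfl⟩, rfl⟩ := Subgroup.mem_sup_of_normal_left.1 (h1 ▸ Subgroup.mem_top x)
  refine ⟨a, ?_⟩
  change s a * w ^ k * w * (s a * w ^ k)⁻¹ = _
  group

theorem irr_XX (hψ : IsCharacter (XX s w) fun x => ψ x) (hs : IsIrrCharacter A fun a => ψ (s a)) :
    IsIrrCharacter (XX s w) fun x => ψ x := CharactersDeep.MaxInduced.isIrr_of_comp (sX s w) hψ hs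

theorem cls_cc (hw : ∀ a, ∃ a', w * s a * w⁻¹ = s a') (hψ : IsCharacter (XX s w) fun x => ψ x) :
    ∑ᶠ v ∈ cls s w, ψ v / ψ 1 = centralChar (fun x : XX s w => ψ x) (wX s w) := by
  rw [← ClassSum.finsum_conj_div (isCharacter_isClassFunction hψ)]
  refine (finsum_mem_eq_of_bijOn Subtype.val ⟨fun y hy => conj_wX hw hy, Subtype.val_injective.injOn, ?_⟩
    fun _ _ => rfl).symm
  rintro _ ⟨a, rfl⟩
  exact ⟨sX s w a * wX s w * (sX s w a)⁻¹, isConj_iff.2 ⟨_, rfl⟩, rfl⟩

variable {p : ℕ} [Fact p.Prime] {M : Ideal AlgInt}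

theorem cls_int [M.IsPrime] (hw : ∀ a, ∃ a', w * s a * w⁻¹ = s a') (hψ : IsCharacter (XX s w) fun x => ψ x)
    (hs : IsIrrCharacter A fun a => ψ (s a)) : MemLocalRing M (∑ᶠ v ∈ cls s w, ψ v / ψ 1) := by
  rw [cls_cc hw hψ]
  exact Local.memLocalRing_of_isIntegral (Central.isIntegral_centralChar (irr_XX hψ hs) _)

/-- **Vanishing of a class sum.** -/
theorem van (hM : IsPModular p M) (hi : Function.Injective s) (hw : ∀ a, ∃ a', w * s a * w⁻¹ = s a')
    (hψ : IsCharacter (XX s w) fun x => ψ x) (hs : IsIrrCharacter A fun a => ψ (s a)) {L : Type} [Group L] [Finite L]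
    {ι : L →* A} (hι : Function.Injective ι) (hn : ι.range.Normal) {φ : L → ℂ} (hφ : IsIrrCharacter L φ)
    (ho : Ov ι (fun a => ψ (s a)) φ) (h0 : ¬ IsDefectGroup p M (blockOf M φ) ⊥)
    (h1 : ∀ v ∈ cls s w, ∀ (b : L) (k : ℕ), b ^ p ^ k = 1 → s (ι b) * v = v * s (ι b) → b = 1) :
    MemLocalIdeal M (∑ᶠ v ∈ cls s w, ψ v / ψ 1) := by
  have := Local.isPrime_of_isPModular hM
  by_contra h2
  rw [cls_cc hw hψ] at h2
  have b1 := Basic.isPBlock_blockOf (M := M) ⟨φ, hφ⟩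
  have b2 := Basic.isPBlock_blockOf (M := M) ⟨_, hs⟩
  have b3 := Basic.isPBlock_blockOf (M := M) ⟨_, irr_XX hψ hs⟩
  obtain ⟨Q, hQ⟩ := H592.Defect.exists_defectGroup p hM b1
  obtain ⟨P, hP, h3⟩ := exists_defect_inf hM hι hn b2 b1
    ⟨_, Basic.mem_blockOf_self _, _, Basic.mem_blockOf_self _, ho⟩ hQ
  obtain ⟨R, hR, h4⟩ := exists_defect_inf (ι := sX s w) hM (fun a b h => hi (congrArg Subtype.val h)) (normal_sX hw) b3 b2
    ⟨_, Basic.mem_blockOf_self _, _, Basic.mem_blockOf_self _,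
      Perm.Pr.ov (fun a => show ψ (s a) * ψ (s 1) = ψ 1 * ψ (s a) by rw [map_one, mul_comm]) (isIrr_apply_one_ne_zero (irr_XX hψ hs)) hs⟩ hP
  obtain ⟨y, h5, h6⟩ := KM.Mu.exists_cent hM b3 hR (Basic.mem_blockOf_self _) h2
  refine h0 (((Subgroup.eq_bot_iff_forall Q).2 fun b hb => ?_) ▸ hQ)
  obtain ⟨k, hk⟩ := H592.Defect.isPGroup_of_isDefectGroup hQ ⟨b, hb⟩
  rw [← h3, ← h4] at hb
  exact h1 y (conj_wX hw h5) b k (congrArg Subtype.val hk)
    (congrArg Subtype.val (Subgroup.mem_centralizer_singleton_iff.1 (h6 hb)))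

omit [Finite A] in
/-- sums over invariant sets -/
theorem mem_of_cls [M.IsPrime] {F : W → ℂ} (S : Set W) (h1 : ∀ v ∈ S, cls s v ⊆ S)
    (h2 : ∀ v ∈ S, MemLocalIdeal M (∑ᶠ u ∈ cls s v, F u)) : MemLocalIdeal M (∑ᶠ v ∈ S, F v) := by
  induction h : S.ncard using Nat.strong_induction_on generalizing S with
  | _ n ih =>
    rcases S.eq_empty_or_nonempty with rfl | ⟨v, hv⟩
    · rw [finsum_mem_empty]
      exact Local.memLocalIdeal_zero
    · rw [← Set.union_sdiff_cancel (h1 v hv), finsum_mem_union Set.disjoint_sdiff_right (Set.toFinite _) (Set.toFinite _)]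
      refine Local.memLocalIdeal_add (h2 v hv) (ih _ ?_ _ (fun u hu x hx => ⟨h1 u hu.1 hx, fun h3 => hu.2 ?_⟩)
        (fun u hu => h2 u hu.1) rfl)
      · exact h ▸ Set.ncard_lt_ncard ⟨Set.sdiff_subset, fun h3 => (h3 hv).2 (self_mem_cls s v)⟩
      · rw [← cls_eq h3, cls_eq hx]
        exact self_mem_cls s u

theorem prod_sub_prod [M.IsPrime] {I : Type} (t : Finset I) {a b : I → ℂ} (ha : ∀ i, MemLocalRing M (a i))
    (h : ∀ i, MemLocalIdeal M (a i - b i)) : MemLocalIdeal M (∏ i ∈ t, a i - ∏ i ∈ t, b i) := by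
  classical
  induction t using Finset.induction_on with
  | empty => simpa using Local.memLocalIdeal_zero
  | insert i t hi ih =>
    rw [Finset.prod_insert hi, Finset.prod_insert hi]
    exact Local.memLocalIdeal_mul_sub_mul (ha i)
      (Local.memLocalRing_prod fun j _ => (Local.memLocalRing_iff_of_sub (h j)).1 (ha j)) (h i) ih

end Cfsg.Agent.BH.Star
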