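import Cfsg.Agent.BH.Defs

/-!
# BH, box STAR: the sub-boxes (helper57)

`BoxS1R` : the box S1 for an arbitrary subgroup; `BoxTENS` : the match of a central product; `BoxGL` : block theory.
Paper proofs: `notes/BH/star.md`.
-/

set_option autoImplicit false

namespace Cfsg.Agent.BH

open Cfsg Cfsg.Agent.TID.Red Cfsg.Agent.KM.BK Cfsg.Agent.TO

/-- [S1R] the box S1 in the normalizer of `K` -/
def BoxS1R (p : ℕ) (M : Ideal AlgInt) : Prop := KMa p →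
  ∀ (G : Type) [Group G] [Finite G] (K : Subgroup G) (b : Set (IrrCharacter K)) (Q : Subgroup G)
    (θ : G → ℂ), Root p M K b Q θ → Subgroup.normalizer (K : Set G) ≤ K ⊔ (In Q θ ⊓ Subgroup.normalizer (K : Set G)) →
    Small p Q → Zr K Q θ = ⊥ → ¬ Three b →
    ∃ τ : (G → ℂ) → (G → ℂ),
      (∀ χ : G → ℂ, ∀ h ∈ In Q θ ⊓ Subgroup.normalizer (K : Set G), τ (χ ∘ MulAut.conj h) = τ χ ∘ MulAut.conj h) ∧
      (∀ χ : G → ℂ, ∀ y, y ∉ K ⊓ In Q θ → τ χ y = 0) ∧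
      (∀ χ χ' : G → ℂ, (fun n : K => χ n) ∈ Fn b → (fun n : K => χ' n) ∈ Fn b → τ χ = τ χ' →
        ∀ n : K, χ n = χ' n) ∧
      (∀ η ∈ LocB M K Q θ, ∃ χ : G → ℂ, (fun n : K => χ n) ∈ Fn b ∧ (∀ y, y ∉ K → χ y = 0) ∧
        ∀ n : (K ⊓ In Q θ : Subgroup G), τ χ n = η.1 n) ∧
      ∀ χ : G → ℂ, (fun n : K => χ n) ∈ Fn b → (∀ y, y ∉ K → χ y = 0) →
        HasMatch p M (In ⊤ χ ⊓ Subgroup.normalizer (K : Set G)) K (In Q θ) χ (τ χ)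

/-- `N` is the central product of `Z` and the conjugates of `K` by the elements `g i`; `θ` and `θ'` have the factors
`X i` and `X' i`, which are matched -/
structure TData (p : ℕ) (M : Ideal AlgInt) {G I : Type} [Group G] [MulAction G I] (K H₀ T H N Z : Subgroup G)
    (g : I → G) (X X' : I → G → ℂ) (θ θ' : G → ℂ) : Prop where
  hM : IsPModular p M
  perf : ⁅K, K⁆ = K
  zp : ¬ p ∣ Nat.card (Subgroup.center K)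
  ce : Ce K ≤ H₀
  comm : ∀ i j, i ≠ j → cj (g i) K ≤ Ce (cj (g j) K)
  cen : Z ≤ Subgroup.center G
  sup : N = (⨆ i, cj (g i) K) ⊔ Z
  le : N ≤ T
  fra : T ≤ N ⊔ (T ⊓ H)
  zH : Z ≤ H
  fix : ∀ n ∈ N, ∀ i : I, n • i = i
  mem : ∀ i, ∀ k ∈ K, k ∈ H₀ → g i * k * (g i)⁻¹ ∈ H
  loc : ∀ h ∈ T ⊓ H, ∀ i, (g (h • i))⁻¹ * h * g i ∈ H₀
  nrm : ∀ t ∈ T, ∀ i, (g (t • i))⁻¹ * t * g i ∈ Subgroup.normalizer (K : Set G)
  irr : IsIrrCharacter N (fun n => θ n)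
  irr' : IsIrrCharacter (N ⊓ H : Subgroup G) (fun n => θ' n)
  irrX : ∀ i, IsIrrCharacter K (fun k => X i k)
  irrX' : ∀ i, IsIrrCharacter (K ⊓ H₀ : Subgroup G) (fun k => X' i k)
  pr : ∀ i, ∀ k ∈ K, θ (g i * k * (g i)⁻¹) * X i 1 = θ 1 * X i k
  pr' : ∀ i, ∀ k ∈ K ⊓ H₀, θ' (g i * k * (g i)⁻¹) * X' i 1 = θ' 1 * X' i k
  prZ : ∀ z ∈ Z, θ z * θ' 1 = θ 1 * θ' z
  inv : ∀ t ∈ T, ∀ n ∈ N, θ (t * n * t⁻¹) = θ n
  inv' : ∀ h ∈ T ⊓ H, ∀ n ∈ N ⊓ H, θ' (h * n * h⁻¹) = θ' n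
  mat : ∀ i, ∃ T₀ : Subgroup G, (∀ y ∈ Subgroup.normalizer (K : Set G), g i * y * (g i)⁻¹ ∈ T → y ∈ T₀) ∧
    HasMatch p M T₀ K H₀ (X i) (X' i)
  pos : ∀ i, ¬ IsDefectGroup p M (blockOf M fun k : K => X i k) ⊥
  pos' : ∀ i, ¬ IsDefectGroup p M (blockOf M fun k : (K ⊓ H₀ : Subgroup G) => X' i k) ⊥

/-- [TENS] the match of a central product -/
def BoxTENS (p : ℕ) (M : Ideal AlgInt) : Prop :=
  ∀ (G I : Type) [Group G] [Finite G] [Finite I] [MulAction G I] (K H₀ T H N Z : Subgroup G) (g : I → G)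
    (X X' : I → G → ℂ) (θ θ' : G → ℂ), TData p M K H₀ T H N Z g X X' θ θ' → HasMatch p M T N H θ θ'

/-- [GL] the members of the local block cannot all be matched -/
def BoxGL (p : ℕ) (M : Ideal AlgInt) : Prop :=
  ∀ (G : Type) [Group G] [Finite G] (B : Set (IrrCharacter G)) (D : Subgroup G), Min p M B D → pCore p G = ⊥ →
    ∀ (N : Subgroup G) [N.Normal], Subgroup.center G < N → Ab (D ⊓ N) → D ⊓ N ≠ ⊥ →
      ¬ ∀ Θ : G → ℂ, Root p M N (cov B N) (D ⊓ N) Θ → Zr N (D ⊓ N) Θ = ⊥ ∧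
        ∀ η : G → ℂ, (fun n : (N ⊓ In (D ⊓ N) Θ : Subgroup G) => η n) ∈ Fn (LocB M N (D ⊓ N) Θ) →
          (∀ x, x ∉ N ⊓ In (D ⊓ N) Θ → η x = 0) →
          ∃ ψ : G → ℂ, (fun n : N => ψ n) ∈ Fn (cov B N) ∧ (∀ x, x ∉ N → ψ x = 0) ∧
            (∀ h ∈ In (D ⊓ N) Θ, h ∈ In ⊤ ψ ↔ h ∈ In ⊤ η) ∧ HasMatch p M (In ⊤ ψ) N (In (D ⊓ N) Θ) ψ η

end Cfsg.Agent.BH
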