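import Cfsg.Agent.BH.Star.Defs
import Cfsg.Agent.BH.Perm.A
import Cfsg.Agent.KM.BK.C
import Cfsg.Agent.H793.PC.Pi
import Cfsg.Agent.H686.CharKit

/-!
# BH, box STAR: characters of central products (helper57)

* `eq_of_pr` : irreducible characters of a central product with the same factors are equal;
* `prod_pr` : the product formula;  `sc` : Schur's lemma for characters.
-/

set_option autoImplicit false

namespace Cfsg.Agent.BH.Star

open Cfsg Cfsg.Agent Cfsg.Agent.Characters.Core Cfsg.Agent.KM.BK Cfsg.Agent.TO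

/-- **Irreducible characters of a central product with proportional factors are equal.** -/
theorem eq_of_pr {G I : Type} [Group G] [Finite G] [Finite I] {N Z : Subgroup G} {A : I → Subgroup G}
    (hZ : Z ≤ Subgroup.center G) (hc : ∀ i j, i ≠ j → A i ≤ Ce (A j)) (hN : N = (⨆ i, A i) ⊔ Z) {f f' : G → ℂ}
    (hf : IsIrrCharacter N fun n => f n) (hf' : IsIrrCharacter N fun n => f' n)
    (h1 : ∀ i, ∀ a ∈ A i, f a * f' 1 = f 1 * f' a) (h2 : ∀ z ∈ Z, f z * f' 1 = f 1 * f' z) :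
    ∀ n ∈ N, f n = f' n := by
  have hA : ∀ i, A i ≤ N := fun i => hN ▸ (le_iSup A i).trans le_sup_left
  have hZ' : ∀ i, Z ≤ Ce (A i) := fun i => hZ.trans (Subgroup.center_le_centralizer _)
  have hC : ∀ j, N ≤ A j ⊔ Ce (A j) := fun j => hN ▸ sup_le (iSup_le fun i => by
    by_cases h : i = j
    · exact h ▸ le_sup_left
    · exact (hc i j h).trans le_sup_right) ((hZ' j).trans le_sup_right)
  have n0 : f 1 ≠ 0 := (isIrr_apply_one_ne_zero hf :)
  have n0' : f' 1 ≠ 0 := (isIrr_apply_one_ne_zero hf' :)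
  have key : ∀ s : Set I, ∀ x ∈ (⨆ i ∈ s, A i) ⊔ Z, f x * f' 1 = f 1 * f' x := by
    intro s
    induction s, Set.toFinite s using Set.Finite.induction_on with
    | empty => simpa using h2
    | @insert j s hj _ ih =>
      intro x hx
      rw [iSup_insert, sup_assoc] at hx
      have h3 : (⨆ i ∈ s, A i) ⊔ Z ≤ Ce (A j) :=
        sup_le (iSup₂_le fun i hi => hc i j fun e => hj (e ▸ hi)) (hZ' j)
      obtain ⟨k, hk, c, hc', rfl⟩ := exists_mul_of_le_centralizer h3 hx
      have h4 : c ∈ N := (sup_le (iSup₂_le fun i _ => hA i) (hN ▸ le_sup_right) : _ ≤ N) hc'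
      have h5 := mul_apply_comp (hA j) (hC j) ⟨_, hf⟩ (a := ⟨c, h4⟩) (k := ⟨k, hA j hk⟩) (h3 hc') hk
      have h6 := mul_apply_comp (hA j) (hC j) ⟨_, hf'⟩ (a := ⟨c, h4⟩) (k := ⟨k, hA j hk⟩) (h3 hc') hk
      change f c * f k = f 1 * f (c * k) at h5
      change f' c * f' k = f' 1 * f' (c * k) at h6
      rw [h3 hc' k hk]
      apply mul_left_cancel₀ (mul_ne_zero n0 n0')
      linear_combination (-f' 1 ^ 2) * h5 + f 1 ^ 2 * h6 + f k * f' 1 * ih c hc' + f 1 * f' c * h1 j k hk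
  intro n hn
  exact congrFun (Perm.eq_of_prop hf hf' fun x => key Set.univ x (by simp [← hN])) ⟨n, hn⟩

/-- **The product formula.** -/
theorem prod_pr {A X Z I : Type} [Group A] [Group X] [Group Z] [Finite A] [Finite Z] [Fintype I] [DecidableEq I]
    (hZ : ∀ z w : Z, z * w = w * z) (μ : (I → A) × Z →* X) (hμ : Function.Surjective μ) {f : X → ℂ}
    (hf : IsIrrCharacter X f) {φ : I → A → ℂ} (hφ : ∀ i, IsIrrCharacter A (φ i)) {l : Z → ℂ} (hl : IsIrrCharacter Z l)
    (h1 : ∀ i a, f (μ (Pi.mulSingle i a, 1)) * φ i 1 = f 1 * φ i a) (h2 : ∀ z, f (μ (1, z)) * l 1 = f 1 * l z)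
    (x : (I → A) × Z) : f (μ x) = (∏ i, φ i (x.1 i)) * l x.2 := by
  let e : I → A →* (I → A) × Z := fun i => (MonoidHom.inl _ _).comp (MonoidHom.mulSingle (fun _ => A) i)
  have h3 : IsIrrCharacter ((I → A) × Z) fun y => (∏ i, φ i (y.1 i)) * l y.2 :=
    (S0188.result _).2 ⟨_, _, H793.PC.isIrr_pi (A := fun _ => A) hφ, hl, rfl⟩
  have h4 : Function.Surjective (⊤ : Subgroup ((I → A) × Z)).subtype := fun y => ⟨⟨y, trivial⟩, rfl⟩
  refine eq_of_pr (N := ⊤) (Z := (MonoidHom.inr (I → A) Z).range) (A := fun i => (e i).range)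
    (f := fun y => f (μ y)) (f' := fun y => (∏ i, φ i (y.1 i)) * l y.2) ?_ ?_ ?_
    (isIrr_comp _ h4 (isIrr_comp μ hμ hf)) (isIrr_comp _ h4 h3) ?_ ?_ x trivial
  · rintro _ ⟨z, rfl⟩
    exact Subgroup.mem_center_iff.2 fun y => Prod.ext (by simp) (hZ _ _)
  · rintro i j hij _ ⟨a, rfl⟩ _ ⟨b, rfl⟩
    exact Prod.ext (Pi.mulSingle_commute (f := fun _ => A) hij.symm b a).eq rfl
  · refine (eq_top_iff.2 fun y _ => ?_).symm
    have h5 : ∀ k : I → A, ((k, 1) : (I → A) × Z) ∈ ⨆ i, (e i).range := fun k =>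
      Subgroup.pi_mem_of_mulSingle_mem (H := (⨆ i, (e i).range).comap (MonoidHom.inl (I → A) Z)) k fun i =>
        Subgroup.mem_iSup_of_mem i ⟨k i, rfl⟩
    rw [show y = (y.1, 1) * (1, y.2) by simp]
    exact mul_mem (Subgroup.mem_sup_left (h5 _)) (Subgroup.mem_sup_right ⟨y.2, rfl⟩)
  · rintro i _ ⟨a, rfl⟩
    have h5 : (∏ j, φ j (Pi.mulSingle (M := fun _ => A) i a j)) * φ i 1 = φ i a * ∏ j, φ j 1 := by
      rw [← Finset.mul_prod_erase _ _ (Finset.mem_univ i), ← Finset.mul_prod_erase _ (fun j => φ j 1) (Finset.mem_univ i),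
        Pi.mulSingle_eq_same, Finset.prod_congr rfl fun j hj => by rw [Pi.mulSingle_eq_of_ne (Finset.ne_of_mem_erase hj)]]
      ring
    change f (μ (Pi.mulSingle i a, 1)) * ((∏ j, φ j 1) * l 1) =
      f (μ 1) * ((∏ j, φ j (Pi.mulSingle (M := fun _ => A) i a j)) * l 1)
    apply mul_left_cancel₀ (isIrr_apply_one_ne_zero (hφ i))
    rw [map_one]
    linear_combination (∏ j, φ j 1) * l 1 * h1 i a - f 1 * l 1 * h5
  · rintro _ ⟨z, rfl⟩
    change f (μ (1, z)) * ((∏ j, φ j 1) * l 1) = f (μ 1) * ((∏ j, φ j 1) * l z)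
    rw [map_one]
    linear_combination (∏ j, φ j 1) * h2 z

/-- **Schur's lemma** for a character with an irreducible restriction. -/
theorem sc {A W : Type} [Group A] [Group W] [Finite A] (s : A →* W) {ψ : W → ℂ} (hψ : IsCharacter W ψ)
    (hs : IsIrrCharacter A fun a => ψ (s a)) {u : W} (hu : ∀ a, s a * u = u * s a) (x : W) :
    ψ (u * x) * ψ 1 = ψ u * ψ x := by
  obtain ⟨n, ρ, rfl⟩ := hψ
  have h1 := isIrreducible_of_isIrrCharacter (G := A) (ρ.comp s : Representation ℂ A (Fin n → ℂ)) hs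
  let T : Representation.IntertwiningMap (ρ.comp s : Representation ℂ A (Fin n → ℂ)) (ρ.comp s) :=
    LinearMap.intertwiningMap_of_isIntertwiningMap _ _ (ρ u) fun a v => by
      change ρ u (ρ (s a) v) = ρ (s a) (ρ u v)
      rw [← Module.End.mul_apply, ← map_mul, ← hu, map_mul, Module.End.mul_apply]
  obtain ⟨c, hc⟩ := (Representation.IsIrreducible.algebraMap_intertwiningMap_bijective_of_isAlgClosed
    (ρ := (ρ.comp s : Representation ℂ A (Fin n → ℂ)))).2 T
  have h2 : ρ u = c • (1 : Module.End ℂ (Fin n → ℂ)) :=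
    (congrArg Representation.IntertwiningMap.toLinearMap hc).symm
  simp only [Representation.character, map_mul, h2, smul_mul_assoc, one_mul, map_smul, map_one, smul_eq_mul]
  ring

end Cfsg.Agent.BH.Star
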