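import Cfsg.Agent.BH.Star.S1R
import Cfsg.Agent.BH.Star.Prod

/-!
# BH, box STAR: roots and local blocks of a factor of a central product (helper17)
-/

set_option autoImplicit false
set_option linter.style.haveILetI false
set_option linter.unusedSectionVars false

namespace Cfsg.Agent.BH.Star.Fin

open Cfsg Cfsg.Agent Cfsg.Agent.Characters.Core Cfsg.Agent.Blocks Cfsg.Agent.TID.Red Cfsg.Agent.KM.BK Cfsg.Agent.TO
open Cfsg.Agent.KM.Mu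
open Cfsg.Agent.H592.Transport (tr trSet tr_mem_trSet mem_trSet isPBlock_trSet sameBlock_tr)

variable {p : ℕ} [Fact p.Prime] {M : Ideal AlgInt} {G : Type} [Group G] [Finite G]

theorem same_cen (hM : IsPModular p M) {ξ ξ' : IrrCharacter G} (h : SameBlock M (ξ : G → ℂ) (ξ' : G → ℂ)) {z : G}
    (hz : z ∈ Subgroup.center G) (hr : IsPRegular p z) :
    (ξ : G → ℂ) z / (ξ : G → ℂ) 1 = (ξ' : G → ℂ) z / (ξ' : G → ℂ) 1 := by
  have key : ∀ η : IrrCharacter G, ((η : G → ℂ) z / (η : G → ℂ) 1) ^ orderOf z = 1 := fun η => by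
    obtain ⟨c, c1, c2, -⟩ := ODD.Red.exists_central η.2 hz
    have h1 := c1 1
    rw [mul_one] at h1
    rw [h1, mul_div_cancel_right₀ _ (isIrr_apply_one_ne_zero η.2)]
    exact c2 _ (pow_orderOf_eq_one z)
  have h1 := h z
  rw [Cn.central_center _ hz, Cn.central_center _ hz] at h1
  exact H658.KKL.FongTwo.root_eq hM hr (orderOf_pos z).ne' (key ξ) (key ξ') h1

section root

variable {N Q : Subgroup G} {b : Set (IrrCharacter N)} {Θ : G → ℂ}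

theorem irrC (r : Root p M N b Q Θ) : IsIrrCharacter (N ⊓ Ce Q : Subgroup G) (fun c => Θ c) := by
  let f : (N ⊓ Ce Q : Subgroup G) →* Ce (Q.subgroupOf N) :=
    (Subgroup.inclusion inf_le_left).codRestrict _ fun c => (Main.ce_iff r.le _).2 c.2.2
  exact isIrr_comp f (fun c => ⟨⟨c.1, c.1.2, (Main.ce_iff r.le _).1 c.2⟩, rfl⟩) r.can.irr

theorem zeroC (r : Root p M N b Q Θ) {g : G} (hg : g ∉ N ⊓ Ce Q) : Θ g = 0 := by
  by_cases h : g ∈ N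
  · exact r.can.zero ⟨g, h⟩ fun h1 => hg ⟨h, (Main.ce_iff r.le _).1 h1⟩
  · exact r.zero g h

omit [Finite G] in
theorem mem_C {t : G} (h1 : t ∈ Subgroup.normalizer (N : Set G)) (h2 : t ∈ Subgroup.normalizer (Q : Set G)) (g : G) :
    g ∈ N ⊓ Ce Q ↔ t * g * t⁻¹ ∈ N ⊓ Ce Q :=
  Subgroup.mem_normalizer_iff.1 (Subgroup.inf_normalizer_le_normalizer_inf
    ⟨h1, H649.mem_normalizer_centralizer h2⟩) g

theorem mem_In_of (r : Root p M N b Q Θ) {t : G} (h1 : t ∈ Subgroup.normalizer (N : Set G))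
    (h2 : t ∈ Subgroup.normalizer (Q : Set G)) (h3 : ∀ g ∈ N ⊓ Ce Q, Θ (t * g * t⁻¹) = Θ g) : t ∈ In Q Θ := by
  refine Cmp.mem_In_iff.2 ⟨fun y => (Subgroup.mem_normalizer_iff.1 h2 y).symm, fun g => ?_⟩
  by_cases hg : g ∈ N ⊓ Ce Q
  · exact h3 g hg
  · rw [zeroC r hg, zeroC r fun h => hg ((mem_C h1 h2 g).2 h)]

theorem ce_le (r : Root p M N b Q Θ) : N ⊓ Ce Q ≤ N ⊓ In Q Θ := fun c hc =>
  ⟨hc.1, mem_In_of r (Subgroup.le_normalizer hc.1) (Subgroup.centralizer_le_normalizer _ hc.2) fun g hg =>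
    isIrr_isClassFunction (irrC r) ⟨g, hg⟩ ⟨c, hc⟩⟩

theorem mem_locB (r : Root p M N b Q Θ) (η : IrrCharacter (N ⊓ In Q Θ : Subgroup G)) :
    η ∈ LocB M N Q Θ ↔ ∃ ξ : IrrCharacter (N ⊓ Ce Q : Subgroup G),
      SameBlock M (fun c : (N ⊓ Ce Q : Subgroup G) => Θ c) ξ.1 ∧ Ov (Subgroup.inclusion (ce_le r)) η.1 ξ.1 := by
  let e : (Ce Q).subgroupOf (N ⊓ In Q Θ) ≃* (N ⊓ Ce Q : Subgroup G) :=
    { toFun := fun c => ⟨c.1, c.1.2.1, c.2⟩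
      invFun := fun c => ⟨⟨c, ce_le r c.2⟩, c.2.2⟩
      left_inv := fun _ => rfl
      right_inv := fun _ => rfl
      map_mul' := fun _ _ => rfl }
  constructor
  · rintro ⟨ξ, h1, h2⟩
    exact ⟨tr e.symm ξ, (sameBlock_tr e (θ := ⟨_, irrC r⟩)).1 h1, (ov_src_iff e.symm (fun _ => rfl) _ ξ).2 h2⟩
  · rintro ⟨ξ, h1, h2⟩
    exact ⟨tr e ξ, (sameBlock_tr e (θ := ⟨_, irrC r⟩)).2 h1, (ov_src_iff e (fun _ => rfl) _ ξ).2 h2⟩

/-- the local block is stable under the inertia group -/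
theorem loc_conj (r : Root p M N b Q Θ) {f : G → ℂ}
    (hf : (fun n : (N ⊓ In Q Θ : Subgroup G) => f n) ∈ Fn (LocB M N Q Θ)) {h : G} (hh : h ∈ In Q Θ)
    (hN : h ∈ Subgroup.normalizer (N : Set G)) :
    (fun n : (N ⊓ In Q Θ : Subgroup G) => f (h * n * h⁻¹)) ∈ Fn (LocB M N Q Θ) := by
  obtain ⟨η, h1, h2⟩ := hf
  obtain ⟨ξ, h3, h4⟩ := (mem_locB r η).1 h1
  have n1 : h ∈ Subgroup.normalizer ((N ⊓ In Q Θ : Subgroup G) : Set G) :=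
    Subgroup.inf_normalizer_le_normalizer_inf ⟨hN, Subgroup.le_normalizer hh⟩
  have n2 : h ∈ Subgroup.normalizer ((N ⊓ Ce Q : Subgroup G) : Set G) :=
    Subgroup.inf_normalizer_le_normalizer_inf ⟨hN, H649.mem_normalizer_centralizer (Main.In_le Q Θ hh)⟩
  refine ⟨tr (cjOn _ n1) η, (mem_locB r _).2 ⟨tr (cjOn _ n2) ξ, ?_, ?_⟩, funext fun n => congrFun h2 _⟩
  · have h5 := (sameBlock_tr (M := M) (cjOn _ n2) (θ := ⟨_, irrC r⟩)).2 h3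
    rwa [show (tr (cjOn _ n2) ⟨_, irrC r⟩).1 = fun c : (N ⊓ Ce Q : Subgroup G) => Θ c from
      funext fun c => hh.2 c] at h5
  · exact Ov.congr (fun _ => rfl) ((ov_src_iff (cjOn _ n2)
      (ι' := (Subgroup.inclusion (ce_le r)).comp (cjOn _ n2).toMonoidHom) (fun _ => rfl) _ ξ).2 h4)

/-- central elements on the local block -/
theorem loc_cen (r : Root p M N b Q Θ) {f : G → ℂ}
    (hf : (fun n : (N ⊓ In Q Θ : Subgroup G) => f n) ∈ Fn (LocB M N Q Θ)) {z : G} (hz : z ∈ Subgroup.center G)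
    (hN : z ∈ N) (hr : IsPRegular p z) : f z / f 1 = Θ z / Θ 1 := by
  obtain ⟨η, h1, h2⟩ := hf
  obtain ⟨ξ, h3, h4⟩ := (mem_locB r η).1 h1
  have hc : z ∈ N ⊓ Ce Q := ⟨hN, Subgroup.center_le_centralizer _ hz⟩
  have h5 := same_cen r.can.hM (ξ := ⟨_, irrC r⟩) h3 (z := ⟨z, hc⟩)
    (Subgroup.mem_center_iff.2 fun y => Subtype.ext (Subgroup.mem_center_iff.1 hz y))
    (fun h => hr (by rwa [← Subgroup.orderOf_coe] at h))
  let e := (MonoidHom.ofInjective (Subgroup.inclusion_injective (ce_le r))).symm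
  have h6 := Cmp.ov_center ((ov_src_iff e (ι' := Subgroup.subtype _)
    (fun a => (MonoidHom.apply_ofInjective_symm _ a).symm) _ ξ).2 h4) (z := ⟨z, ce_le r hc⟩)
    (Subgroup.mem_center_iff.2 fun y => Subtype.ext (Subgroup.mem_center_iff.1 hz y)) ⟨⟨z, hc⟩, rfl⟩
  rw [h2] at h6
  refine h6.symm.trans (Eq.trans ?_ h5.symm)
  rw [H592.Transport.tr_apply, H592.Transport.tr_apply, map_one]
  exact congrArg (fun y => ξ.1 y / ξ.1 1) (e.apply_symm_apply ⟨z, hc⟩)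

omit [Finite G] in
theorem zr_mem {x : G} : x ∈ Zr N Q Θ ↔ x ∈ Q ∧ ∀ t ∈ In Q Θ, t ∈ N → t * x = x * t :=
  ⟨fun h => ⟨h.1, fun t h1 h2 => h.2 t ⟨h1, h2⟩⟩, fun h => ⟨h.1, fun t h1 => h.2 t h1.1 h1.2⟩⟩

/-- `Zr` does not depend on the root -/
theorem zr_bot {Θ' : G → ℂ} (r : Root p M N b Q Θ) (r' : Root p M N b Q Θ') (h : Zr N Q Θ = ⊥) : Zr N Q Θ' = ⊥ := by
  obtain ⟨x, h1, h2⟩ := r.can.conj r'.can
  have i1 := in_sub r.zero (Or.inl r.le)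
  have i2 := in_sub r'.zero (Or.inl r.le)
  rw [eq_bot_iff]
  intro z hz
  obtain ⟨h3, h4⟩ := zr_mem.1 hz
  have h5 : (x : G) * z * (x : G)⁻¹ ∈ Zr N Q Θ := zr_mem.2 ⟨(h1 ⟨z, r.le h3⟩).2 h3, fun t ht hN => by
    have h6 : (⟨t, hN⟩ : N) ∈ In (Q.subgroupOf N) fun n : N => Θ n := i1 ▸ ht
    have h7 : x⁻¹ * ⟨t, hN⟩ * x ∈ In (Q.subgroupOf N) fun n : N => Θ' n := by
      have h8 : ∀ y : N, x * (x⁻¹ * ⟨t, hN⟩ * x * y * (x⁻¹ * ⟨t, hN⟩ * x)⁻¹) * x⁻¹ =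
          ⟨t, hN⟩ * (x * y * x⁻¹) * (⟨t, hN⟩ : N)⁻¹ := fun y => by group
      refine Cmp.mem_In_iff.2 ⟨fun y => ?_, fun y => ?_⟩
      · rw [← h1, h8, ← h1 y]
        exact h6.1 _
      · rw [← h2, h8, ← h2 y]
        exact h6.2 _
    rw [i2] at h7
    have h9 : (x : G)⁻¹ * t * x * z = z * ((x : G)⁻¹ * t * x) := h4 _ h7 (x⁻¹ * ⟨t, hN⟩ * x).2
    calc t * (x * z * (x : G)⁻¹) = x * ((x : G)⁻¹ * t * x * z) * (x : G)⁻¹ := by group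
      _ = _ := by rw [h9]; group⟩
  rw [h, Subgroup.mem_bot] at h5
  exact Subgroup.mem_bot.2 (by simpa using h5)

/-- the Frattini argument -/
theorem frat [N.Normal] {B : Set (IrrCharacter G)} (r : Root p M N (cov B N) Q Θ) : N ⊔ In Q Θ = ⊤ := by
  rw [eq_top_iff]
  intro g _
  have := r.can.prime
  obtain ⟨ψ, hψ⟩ := Basic.isPBlock_nonempty r.can.hb
  obtain ⟨n, hn⟩ := r.can.frat (α := MulAut.conjNormal g) (Orb.stab_of r.can.hM r.can.hb ⟨ψ, hψ, rfl⟩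
    ⟨_, ((Main.isStab_cov B N).mem_iff g).1 (Subgroup.mem_top g) ψ hψ, rfl⟩)
  rw [Main.conj_eq, ← map_mul, Main.la_iff r.le r.zero] at hn
  have h1 := Subgroup.mul_mem_sup (N.inv_mem n.2) hn
  rwa [inv_mul_cancel_left] at h1

end root

/-- a factor `K` of the central product `N`, with roots -/
structure Cx (p : ℕ) (M : Ideal AlgInt) {G : Type} [Group G] (K N Q : Subgroup G) (b₀ : Set (IrrCharacter K))
    (b : Set (IrrCharacter N)) (θ Θ : G → ℂ) (a : ℂ) : Prop where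
  le : K ≤ N
  cp : N ≤ K ⊔ Ce K
  key : ∀ x ∈ Q, ∃ k ∈ Q ⊓ K, k⁻¹ * x ∈ Ce K
  r : Root p M N b Q Θ
  r0 : Root p M K b₀ (Q ⊓ K) θ
  ne : a ≠ 0
  pr : ∀ k ∈ K, Θ k = a * θ k

namespace Cx

variable {K N Q : Subgroup G} {b₀ : Set (IrrCharacter K)} {b : Set (IrrCharacter N)} {θ Θ : G → ℂ} {a : ℂ}
  (c : Cx p M K N Q b₀ b θ Θ a)

include c

theorem nrm : N ≤ Subgroup.normalizer (K : Set G) :=
  c.cp.trans (sup_le Subgroup.le_normalizer (Subgroup.centralizer_le_normalizer _))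

theorem ce : K ⊓ Ce (Q ⊓ K) ≤ N ⊓ Ce Q := fun k hk => ⟨c.le hk.1, fun x hx => by
  obtain ⟨l, hl, h⟩ := c.key x hx
  rw [← mul_inv_cancel_left l x, mul_assoc, ← h k hk.1, ← mul_assoc, hk.2 l hl, mul_assoc]⟩

theorem cpC : N ⊓ Ce Q ≤ K ⊓ Ce (Q ⊓ K) ⊔ Ce (K ⊓ Ce (Q ⊓ K)) := fun x hx => by
  obtain ⟨k, hk, d, hd, rfl⟩ := exists_mul_of_le_centralizer le_rfl (c.cp hx.1)
  refine Subgroup.mul_mem_sup ⟨hk, ?_⟩ (Subgroup.centralizer_le (fun y hy => hy.1) hd)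
  exact (mul_mem_cancel_right (Subgroup.centralizer_le (fun y hy => hy.2) hd : d ∈ Ce (Q ⊓ K))).1
    (Subgroup.centralizer_le (fun y hy => hy.1) hx.2)

theorem down {t : G} (h : t ∈ In Q Θ) (hK : t ∈ Subgroup.normalizer (K : Set G)) : t ∈ In (Q ⊓ K) θ :=
  Cmp.mem_In c.ne c.pr c.r0.zero h hK

theorem ce_In : Ce K ≤ In (Q ⊓ K) θ := Cmp.ce_le_In inf_le_right c.r0.zero

theorem up : K ⊓ In (Q ⊓ K) θ ≤ N ⊓ In Q Θ := fun s hs => by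
  have h1 : s ∈ Subgroup.normalizer (Q : Set G) := Subgroup.mem_normalizer_fintype fun x hx => by
    obtain ⟨l, hl, h⟩ := c.key x hx
    have h2 : s * x * s⁻¹ = s * l * s⁻¹ * (l⁻¹ * x) := by
      rw [mul_assoc (s * l), h _ (K.inv_mem hs.1)]
      group
    rw [h2]
    exact mul_mem ((hs.2.1 l).2 hl).1 (mul_mem (inv_mem hl.1) hx)
  refine ⟨c.le hs.1, mem_In_of c.r (Subgroup.le_normalizer (c.le hs.1)) h1 fun x hx => ?_⟩
  obtain ⟨k, hk, d, hd, rfl⟩ := exists_mul_of_le_centralizer le_rfl (c.cp hx.1)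
  have h2 : k ∈ K ⊓ Ce (Q ⊓ K) := ⟨hk, (mul_mem_cancel_right (Subgroup.centralizer_le (fun y hy => hy.2) hd :
    d ∈ Ce (Q ⊓ K))).1 (Subgroup.centralizer_le (fun y hy => hy.1) hx.2)⟩
  have h3 : d ∈ N ⊓ Ce Q := (mul_mem_cancel_left (c.ce h2)).1 hx
  have h4 := (mem_C (Subgroup.le_normalizer hs.1) (Main.In_le _ θ hs.2) k).1 h2
  have h5 : ∀ l ∈ K ⊓ Ce (Q ⊓ K), Θ d * Θ l = Θ 1 * Θ (d * l) := fun l hl =>
    mul_apply_comp c.ce c.cpC ⟨_, irrC c.r⟩ (a := ⟨d, h3⟩) (k := ⟨l, c.ce hl⟩)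
      (Subgroup.centralizer_le (fun y hy => hy.1) hd) hl
  have h6 : s * (k * d) * s⁻¹ = d * (s * k * s⁻¹) := by
    rw [← hd _ h4.1, mul_assoc (s * k), hd _ (K.inv_mem hs.1)]
    group
  rw [h6, hd k hk]
  apply mul_left_cancel₀ (isIrr_apply_one_ne_zero (irrC c.r) :)
  refine (h5 _ h4).symm.trans (Eq.trans ?_ (h5 k h2))
  rw [c.pr _ h4.1, c.pr _ hk, show θ (s * k * s⁻¹) = θ k from hs.2.2 k]

theorem split {x : G} (hx : x ∈ N ⊓ In Q Θ) : ∃ k ∈ K ⊓ In (Q ⊓ K) θ, ∃ d ∈ Ce K, k * d = x := by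
  obtain ⟨k, hk, d, hd, rfl⟩ := exists_mul_of_le_centralizer le_rfl (c.cp hx.1)
  exact ⟨k, ⟨hk, (mul_mem_cancel_right (c.ce_In hd)).1 (c.down hx.2 (c.nrm hx.1))⟩, d, hd, rfl⟩

theorem cpH : N ⊓ In Q Θ ≤ K ⊓ In (Q ⊓ K) θ ⊔ Ce (K ⊓ In (Q ⊓ K) θ) := fun x hx => by
  obtain ⟨k, hk, d, hd, rfl⟩ := c.split hx
  exact Subgroup.mul_mem_sup hk (Subgroup.centralizer_le (fun y hy => hy.1) hd)

/-- the factor of a member of the local block -/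
theorem loc_down {f : G → ℂ} (hf : (fun n : (N ⊓ In Q Θ : Subgroup G) => f n) ∈ Fn (LocB M N Q Θ)) :
    ∃ E ∈ LocB M K (Q ⊓ K) θ, ∀ k : (K ⊓ In (Q ⊓ K) θ : Subgroup G), f k * E.1 1 = f 1 * E.1 k := by
  have := c.r.can.prime
  obtain ⟨η, h1, h2⟩ := hf
  obtain ⟨ξ, h3, h4⟩ := (mem_locB c.r η).1 h1
  have j := Cmp.cp_incl c.ce c.cpC
  obtain ⟨ξ₀, h5⟩ := exists_ov (Subgroup.inclusion c.ce) ξ.2
  have h6 : Ov (Subgroup.inclusion c.ce) (fun x : (N ⊓ Ce Q : Subgroup G) => Θ x)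
      (fun x : (K ⊓ Ce (Q ⊓ K) : Subgroup G) => θ x) :=
    Cmp.ov_of_eq (φ := ⟨_, irrC c.r0⟩) c.ne fun k => c.pr k k.2.1
  obtain ⟨E, h7, h8⟩ := Cmp.exists_mid (ι := Subgroup.inclusion (ce_le c.r0)) (ι₂ := Subgroup.inclusion c.up)
    (fun _ => rfl) (isIrr_isClassFunction η.2)
    (Ov.trans (ι := (Subgroup.inclusion c.up).comp (Subgroup.inclusion (ce_le c.r0))) (fun _ => rfl)
      (isIrr_isCharacter η.2) ξ.2 ξ₀.2 h4 h5)
  refine ⟨E, (mem_locB c.r0 E).2 ⟨ξ₀, fun k => ?_, h8⟩, fun k => ?_⟩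
  · rw [← j.cc (Subgroup.inclusion_injective _) h5]
    refine (congrArg (fun x => MemLocalIdeal M (x - _))
      (j.cc (Subgroup.inclusion_injective _) (ψ := ⟨_, irrC c.r⟩) (φ := ⟨_, irrC c.r0⟩) h6 k)).mp (h3 _)
  · have h9 := ((Cmp.cp_incl c.up c.cpH).ov_iff η E).1 h7 k
    rwa [h2] at h9

end Cx

end Cfsg.Agent.BH.Star.Fin
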