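import Cfsg.Agent.BH.Star.FinA
import Cfsg.Agent.TO.Can1

/-!
# BH, box STAR: the set-up of the conjugates of a component (helper94)
-/

set_option autoImplicit false
set_option linter.style.haveILetI false
set_option linter.unusedSectionVars false

namespace Cfsg.Agent.BH.Star.Fin

open Cfsg Cfsg.Agent Cfsg.Agent.Characters.Core Cfsg.Agent.Blocks Cfsg.Agent.TID.Red Cfsg.Agent.KM.BK Cfsg.Agent.TO
open Cfsg.Agent.KM.Mu
open Cfsg.Agent.H592.Transport (tr)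

variable {p : ℕ} [Fact p.Prime] {M : Ideal AlgInt} {G : Type} [Group G] [Finite G]

/-- an element which fixes a character of a central product on the factors fixes it -/
theorem fix_of {I : Type} [Finite I] {N : Subgroup G} {A : I → Subgroup G} (hc : ∀ i j, i ≠ j → A i ≤ Ce (A j))
    (hN : N = (⨆ i, A i) ⊔ Subgroup.center G) {f : G → ℂ} (hf : IsIrrCharacter N fun n => f n)
    (h0 : ∀ x, x ∉ N → f x = 0) {h : G} (hh : h ∈ Subgroup.normalizer (N : Set G))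
    (h1 : ∀ i, ∀ a ∈ A i, f (h * a * h⁻¹) = f a) : h ∈ In ⊤ f := by
  refine Cmp.mem_In_iff.2 ⟨fun _ => iff_of_true trivial trivial, fun x => ?_⟩
  by_cases hx : x ∈ N
  · refine eq_of_pr le_rfl hc hN (f := fun x => f (h * x * h⁻¹))
      (isIrr_comp (cjOn N hh).toMonoidHom (cjOn N hh).surjective hf) hf (fun i a ha => ?_) (fun z hz => ?_) x hx
    · rw [h1 i a ha, mul_one, mul_inv_cancel, mul_comm]
    · rw [Subgroup.mem_center_iff.1 hz h, mul_inv_cancel_right, mul_one, mul_inv_cancel, mul_comm]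
  · rw [h0 x hx, h0 _ fun h2 => hx ((Subgroup.mem_normalizer_iff.1 hh x).2 h2)]

/-- two functions which are irreducible on `K`, vanish outside and are proportional to the same function -/
theorem eq_of_pp {K : Subgroup G} {f f' F : G → ℂ} {a : ℂ} (ha : a ≠ 0) (hf : IsIrrCharacter K fun n => f n)
    (hf' : IsIrrCharacter K fun n => f' n) (h0 : ∀ x, x ∉ K → f x = 0) (h0' : ∀ x, x ∉ K → f' x = 0)
    (h : ∀ k ∈ K, F k * f 1 = a * f k) (h' : ∀ k ∈ K, F k * f' 1 = a * f' k) : f = f' := by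
  funext x
  by_cases hx : x ∈ K
  · refine congrFun (Perm.eq_of_prop hf hf' fun k => mul_left_cancel₀ ha ?_) ⟨x, hx⟩
    change a * (f k * f' 1) = a * (f 1 * f' k)
    linear_combination f 1 * h' k k.2 - f' 1 * h k k.2
  · rw [h0 x hx, h0' x hx]

theorem irr_of {K : Subgroup G} {b : Set (IrrCharacter K)} {f : K → ℂ} (h : f ∈ Fn b) : IsIrrCharacter K f := by
  obtain ⟨φ, -, rfl⟩ := h
  exact φ.2

/-- the set-up -/
structure Su (p : ℕ) (M : Ideal AlgInt) {G : Type} [Group G] [Finite G] (K N Q : Subgroup G)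
    (B : Set (IrrCharacter G)) (θ Θ : G → ℂ) (a : ℂ) (g : G ⧸ Subgroup.normalizer (K : Set G) → G) : Prop where
  c : Cx p M K N Q (cov B K) (cov B N) θ Θ a
  nor : N.Normal
  gm : ∀ i, g i ∈ In Q Θ
  gk : ∀ i, QuotientGroup.mk (g i) = i
  sup : N = (⨆ i, cj (g i) K) ⊔ Subgroup.center G
  comm : ∀ i j, i ≠ j → cj (g i) K ≤ Ce (cj (g j) K)
  perf : ⁅K, K⁆ = K
  zp : ¬ p ∣ Nat.card (Subgroup.center K)
  zG : ¬ p ∣ Nat.card (Subgroup.center G)
  ne : Q ⊓ K ≠ ⊥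

namespace Su

variable {K N Q : Subgroup G} {B : Set (IrrCharacter G)} {θ Θ : G → ℂ} {a : ℂ}
  {g : G ⧸ Subgroup.normalizer (K : Set G) → G} (s : Su p M K N Q B θ Θ a g)

include s

theorem nrm (t : G) (i : G ⧸ Subgroup.normalizer (K : Set G)) :
    (g (t • i))⁻¹ * t * g i ∈ Subgroup.normalizer (K : Set G) := by
  rw [mul_assoc]
  refine QuotientGroup.eq.1 ?_
  rw [s.gk]
  conv_lhs => rw [← s.gk i]
  rfl

theorem nN (t : G) : t ∈ Subgroup.normalizer (N : Set G) := by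
  have := s.nor
  exact Subgroup.le_normalizer_of_normal (Subgroup.mem_top t)

theorem nNH {h : G} (hh : h ∈ In Q Θ) : h ∈ Subgroup.normalizer ((N ⊓ In Q Θ : Subgroup G) : Set G) :=
  Subgroup.inf_normalizer_le_normalizer_inf ⟨s.nN h, Subgroup.le_normalizer hh⟩

theorem dec (h : G) : ∃ i, ∃ y ∈ Subgroup.normalizer (K : Set G), g i * y = h :=
  ⟨QuotientGroup.mk h, (g (QuotientGroup.mk h))⁻¹ * h, QuotientGroup.eq.1 (s.gk _), mul_inv_cancel_left _ _⟩

theorem zN : Subgroup.center G ≤ N := s.sup ▸ le_sup_right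

theorem zH : Subgroup.center G ≤ N ⊓ In Q Θ := fun _ hz =>
  ce_le s.c.r ⟨s.zN hz, Subgroup.center_le_centralizer _ hz⟩

theorem cpI (j : G ⧸ Subgroup.normalizer (K : Set G)) : N ≤ cj (g j) K ⊔ Ce (cj (g j) K) :=
  s.sup ▸ sup_le (iSup_le fun i => by
    by_cases h : i = j
    · exact h ▸ le_sup_left
    · exact (s.comm i j h).trans le_sup_right) ((Subgroup.center_le_centralizer _).trans le_sup_right)

theorem supH : N ⊓ In Q Θ = (⨆ i, cj (g i) (K ⊓ In (Q ⊓ K) θ)) ⊔ Subgroup.center G := by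
  have h1 : ∀ i, ∀ k ∈ K ⊓ In (Q ⊓ K) θ, g i * k * (g i)⁻¹ ∈ N ⊓ In Q Θ := fun i k hk =>
    (Subgroup.mem_normalizer_iff.1 (s.nNH (s.gm i)) k).1 (s.c.up hk)
  refine le_antisymm ?_ (sup_le (iSup_le fun i => by
    rintro _ ⟨k, hk, rfl⟩
    exact h1 i k hk) s.zH)
  have hA : ∀ i, cj (g i) K ≤ N := fun i => s.sup ▸ (le_iSup (fun i => cj (g i) K) i).trans le_sup_left
  have key : ∀ T : Set (G ⧸ Subgroup.normalizer (K : Set G)), ∀ x ∈ (⨆ i ∈ T, cj (g i) K) ⊔ Subgroup.center G,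
      x ∈ In Q Θ → x ∈ (⨆ i, cj (g i) (K ⊓ In (Q ⊓ K) θ)) ⊔ Subgroup.center G := by
    intro T
    induction T, Set.toFinite T using Set.Finite.induction_on with
    | empty => exact fun x hx _ => Subgroup.mem_sup_right (by simpa using hx)
    | @insert j T hj _ ih =>
      intro x hx hH
      rw [iSup_insert, sup_assoc] at hx
      have h3 : (⨆ i ∈ T, cj (g i) K) ⊔ Subgroup.center G ≤ Ce (cj (g j) K) :=
        sup_le (iSup₂_le fun i hi => s.comm i j fun e => hj (e ▸ hi)) (Subgroup.center_le_centralizer _)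
      obtain ⟨_, ⟨k, hk, rfl⟩, d, hd, rfl⟩ := exists_mul_of_le_centralizer h3 hx
      change g j * k * (g j)⁻¹ * d ∈ _ at hH ⊢
      have h4 : d ∈ N := (sup_le (iSup₂_le fun i _ => hA i) s.zN : _ ≤ N) hd
      have h5 : (g j)⁻¹ * d * g j ∈ Ce K := fun l hl => by
        have h6 : g j * l * (g j)⁻¹ * d = d * (g j * l * (g j)⁻¹) := h3 hd _ ⟨l, hl, rfl⟩
        calc l * ((g j)⁻¹ * d * g j) = (g j)⁻¹ * (g j * l * (g j)⁻¹ * d) * g j := by group
          _ = _ := by rw [h6]; group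
      have h7 : k * ((g j)⁻¹ * d * g j) ∈ In Q Θ := by
        have h8 := mul_mem (mul_mem (inv_mem (s.gm j)) hH) (s.gm j)
        rwa [show (g j)⁻¹ * (g j * k * (g j)⁻¹ * d) * g j = k * ((g j)⁻¹ * d * g j) by group] at h8
      have h8 : k ∈ K ⊓ In (Q ⊓ K) θ := ⟨hk, (mul_mem_cancel_right (s.c.ce_In h5)).1 (s.c.down h7
        (mul_mem (Subgroup.le_normalizer hk) (Subgroup.centralizer_le_normalizer _ h5)))⟩
      exact mul_mem (Subgroup.mem_sup_left (Subgroup.mem_iSup_of_mem j ⟨k, h8, rfl⟩))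
        (ih d hd ((mul_mem_cancel_left (Subgroup.mem_inf.1 (h1 j k h8)).2).1 hH))
  exact fun x hx => key Set.univ x (by simpa [← s.sup] using hx.1) hx.2

theorem commH (i j : G ⧸ Subgroup.normalizer (K : Set G)) (h : i ≠ j) :
    cj (g i) (K ⊓ In (Q ⊓ K) θ) ≤ Ce (cj (g j) (K ⊓ In (Q ⊓ K) θ)) :=
  (Subgroup.map_mono inf_le_left).trans ((s.comm i j h).trans
    (Subgroup.centralizer_le (Subgroup.map_mono (inf_le_left : K ⊓ In (Q ⊓ K) θ ≤ K))))

theorem pos {f : K → ℂ} (hf : f ∈ Fn (cov B K)) : ¬ IsDefectGroup p M (blockOf M f) ⊥ := fun h => by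
  have := s.c.r0.can.prime
  obtain ⟨φ, h1, rfl⟩ := hf
  rw [← Basic.isPBlock_eq_blockOf s.c.r0.can.hb h1] at h
  obtain ⟨x, hx⟩ := conj_defect s.c.r0.can.hM s.c.r0.can.hb h s.c.r0.can.hD
  rw [Subgroup.map_bot, eq_comm, Subgroup.subgroupOf_eq_bot, disjoint_iff, inf_eq_left.2 inf_le_right] at hx
  exact s.ne hx

theorem pos' {f : (K ⊓ In (Q ⊓ K) θ : Subgroup G) → ℂ} (hf : IsIrrCharacter _ f) :
    ¬ IsDefectGroup p M (blockOf M f) ⊥ := fun h => by
  have h1 := S0912.result p M s.c.r0.can.hM _ (Basic.isPBlock_blockOf ⟨f, hf⟩) _ h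
  have h2 : Q ⊓ K ≤ K ⊓ In (Q ⊓ K) θ := fun x hx => ce_le s.c.r0 ⟨hx.2, fun y hy =>
    congrArg Subtype.val (s.c.r0.can.ab (x := ⟨x, hx.2⟩) hx ⟨y, hy.2⟩ hy)⟩
  have h3 : ((Q ⊓ K).subgroupOf (K ⊓ In (Q ⊓ K) θ)).Normal :=
    (Subgroup.normal_subgroupOf_iff_le_normalizer h2).2 (inf_le_right.trans (Main.In_le _ θ))
  have h4 : IsPGroup p (Q ⊓ K : Subgroup G) :=
    s.c.r0.can.pg.of_equiv (Subgroup.subgroupOfEquivOfLe inf_le_right)
  have h5 := (Lib.Cores.le_pCore h3 (h4.comap_subtype)).trans h1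
  rw [le_bot_iff, Subgroup.subgroupOf_eq_bot, disjoint_iff, inf_eq_left.2 h2] at h5
  exact s.ne h5

/-- a member of the block of `N` with prescribed factors -/
theorem fam (X : G ⧸ Subgroup.normalizer (K : Set G) → G → ℂ) (hX : ∀ i, (fun k : K => X i k) ∈ Fn (cov B K)) :
    ∃ ψ : G → ℂ, (fun n : N => ψ n) ∈ Fn (cov B N) ∧ (∀ x, x ∉ N → ψ x = 0) ∧
      ∀ i, ∀ k ∈ K, ψ (g i * k * (g i)⁻¹) * X i 1 = ψ 1 * X i k := by
  choose c hc hc' using hX
  let ι : G ⧸ Subgroup.normalizer (K : Set G) → K →* N := fun i =>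
    ((MulAut.conj (g i)).toMonoidHom.comp K.subtype).codRestrict _ fun k => s.nor.conj_mem _ (s.c.le k.2) _
  have hι : ∀ i (k : K), (ι i k : G) = g i * k * (g i)⁻¹ := fun _ _ => rfl
  have hcen : ∀ i (x : N), (x : G) ∈ Ce (cj (g i) K) → x ∈ Ce (ι i).range := fun i x hx =>
    Subgroup.mem_centralizer_iff.2 (by
      rintro _ ⟨k, rfl⟩
      exact Subtype.ext (Subgroup.mem_centralizer_iff.1 hx _ ⟨k, k.2, rfl⟩))
  obtain ⟨ψ, h1, h2⟩ := Perm.family s.c.r.can.hM (ι := ι) (fun i a b h => by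
      have h1 := congrArg Subtype.val h
      rw [hι, hι, mul_left_inj, mul_right_inj] at h1
      exact Subtype.ext h1) (fun i x => by
      obtain ⟨_, ⟨k, hk, rfl⟩, y, hy, h2⟩ := exists_mul_of_le_centralizer le_rfl (s.cpI i x.2)
      refine ⟨⟨k, hk⟩, (ι i ⟨k, hk⟩)⁻¹ * x, hcen i _ ?_, mul_inv_cancel_left _ _⟩
      have h3 : (((ι i ⟨k, hk⟩)⁻¹ * x : N) : G) = y := by
        rw [Subgroup.coe_mul, Subgroup.coe_inv, ← h2]
        exact inv_mul_cancel_left _ _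
      rwa [h3]) (fun i j h k => hcen i _ (s.comm j i h.symm ⟨k, k.2, rfl⟩)) s.zp s.c.r.can.hb s.c.r0.can.hb (by
      rintro ξ ⟨χ, hχ, h1⟩ i φ h2
      refine ⟨χ, hχ, Ov.congr (ι := N.subtype.comp (ι i)) (fun a => ?_)
        (Ov.trans (fun _ => rfl) (isIrr_isCharacter χ.2) ξ.2 φ.2 h1 (h2.ov (isIrr_apply_one_ne_zero ξ.2) φ.2))⟩
      exact (Basic.irr_conj χ.2 _ _).symm) c hc
  have h3 := funext (ClassSum.extendByZero_coe' N ψ.1)
  refine ⟨extendByZero N ψ.1, ⟨ψ, h1, h3.symm⟩, fun x hx => ClassSum.extendByZero_of_notMem' N _ hx, fun i k hk => ?_⟩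
  have h4 := h2 i ⟨k, hk⟩
  rw [hc' i, ← h3] at h4
  exact h4

end Su

end Cfsg.Agent.BH.Star.Fin
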