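import Cfsg.Agent.BH.Star.Cls
import Cfsg.Agent.H229.RIM.PChar
import Cfsg.Agent.H891.KGV.TI

/-!
# BH, box STAR: matches without the congruence, tensor induction (helper57)

* `Pre`, `exists_pre` : a common cover from any finite group over `T`;
* `tind`, `tind_fam` : tensor induced characters.
-/

set_option autoImplicit false
set_option linter.unusedSectionVars false

namespace Cfsg.Agent.BH.Star

open Cfsg Cfsg.Agent Cfsg.Agent.Characters.Core Cfsg.Agent.Blocks Cfsg.Agent.TID.Red Cfsg.Agent.KM.BK Cfsg.Agent.TO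
open Cfsg.Agent.H686.CharKit (apply_mul_of_eq apply_mul_of_eq')

/-- a match without the congruence -/
structure Pre {G : Type} [Group G] (T N H : Subgroup G) (θ θ' : G → ℂ) (W : Type) [Group W] where
  π : W →* G
  s : N →* W
  ψ : W → ℂ
  ψ' : W → ℂ
  range : π.range = T
  cen : π.ker ≤ Subgroup.center W
  sec : ∀ n, π (s n) = n
  normal : s.range.Normal
  irr : IsIrrCharacter W ψ
  irr' : IsIrrCharacter (H.comap π) (fun w => ψ' w)
  ext : ∀ n : N, ψ (s n) = θ n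
  ext' : ∀ n : N, (n : G) ∈ H → ψ' (s n) = θ' n

/-- Schur's lemma modulo the kernel: the commutators with `u` lie in the kernel -/
theorem sc' {A W : Type} [Group A] [Group W] [Finite A] [Finite W] (s : A →* W) {ψ : W → ℂ} (hψ : IsCharacter W ψ)
    (hs : IsIrrCharacter A fun a => ψ (s a)) {u : W} (hu : ∀ a, ψ (s a * u * (s a)⁻¹ * u⁻¹) = ψ 1) (x : W) :
    ψ (x * u * x⁻¹ * u⁻¹) = ψ 1 := by
  obtain ⟨n, ρ, rfl, -, h0⟩ := H597.Base.exists_rep hψ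
  have h1 := isIrreducible_of_isIrrCharacter (G := A) (ρ.comp s : Representation ℂ A (Fin n → ℂ)) hs
  let T : Representation.IntertwiningMap (ρ.comp s : Representation ℂ A (Fin n → ℂ)) (ρ.comp s) :=
    LinearMap.intertwiningMap_of_isIntertwiningMap _ _ (ρ u) fun a v => by
      change ρ u (ρ (s a) v) = ρ (s a) (ρ u v)
      rw [← Module.End.mul_apply, ← map_mul, ← Module.End.mul_apply, ← map_mul,
        show s a * u = s a * u * (s a)⁻¹ * u⁻¹ * (u * s a) by group, map_mul ρ _ (u * s a), (h0 _).1 (hu a), one_mul]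
  obtain ⟨c, hc⟩ := (Representation.IsIrreducible.algebraMap_intertwiningMap_bijective_of_isAlgClosed
    (ρ := (ρ.comp s : Representation ℂ A (Fin n → ℂ)))).2 T
  have h2 : ρ u = c • (1 : Module.End ℂ (Fin n → ℂ)) :=
    (congrArg Representation.IntertwiningMap.toLinearMap hc).symm
  have h3 : ρ (x * u) = ρ (u * x) := by rw [map_mul, map_mul, h2, smul_mul_assoc, mul_smul_comm, one_mul, mul_one]
  rw [h0, mul_assoc, map_mul, h3, ← map_mul, show u * x * (x⁻¹ * u⁻¹) = 1 by group, map_one]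

/-- **A common cover from a finite group over `T`.** -/
theorem exists_pre {G Γ : Type} [Group G] [Group Γ] [Finite G] [Finite Γ] {T N H : Subgroup G} {θ θ' : G → ℂ}
    (π : Γ →* G) (L : Subgroup Γ) [hL : L.Normal] {ψ ψ' : Γ → ℂ} (hr : π.range = T) (hN : L.map π = N)
    (hf : T ≤ N ⊔ (T ⊓ H)) (hψ : IsCharacter Γ ψ) (hψ' : IsCharacter (H.comap π) fun x => ψ' x)
    (hθ : IsIrrCharacter N fun n => θ n) (hθ' : IsIrrCharacter (N ⊓ H : Subgroup G) fun n => θ' n)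
    (e : ∀ n ∈ L, ψ n = θ (π n)) (e' : ∀ n ∈ L, π n ∈ H → ψ' n = θ' (π n)) :
    ∃ (W : Type) (_ : Group W) (_ : Finite W) (P : Pre T N H θ θ' W) (q : Γ →* W), Function.Surjective q ∧
      (∀ x, P.π (q x) = π x) ∧ (∀ x, P.ψ (q x) = ψ x) ∧ (∀ x, π x ∈ H → P.ψ' (q x) = ψ' x) ∧
      (∀ y, P.π y ∉ H → P.ψ' y = 0) ∧ ∀ x ∈ L, ∀ n : N, π x = n → P.s n = q x := by
  subst hN
  have k1 : ∀ u ∈ L, π u = 1 → ψ u = ψ 1 ∧ ψ' u = ψ' 1 := fun u hu h => by
    rw [e u hu, e' u hu (h ▸ one_mem _), e 1 (one_mem _), e' 1 (one_mem _) (map_one π ▸ one_mem _), h, map_one]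
    exact ⟨rfl, rfl⟩
  have k2 : ∀ {u : Γ}, π u = 1 → u ∈ H.comap π := fun h => (h ▸ one_mem H : π _ ∈ H)
  let V : Subgroup Γ := π.ker ⊓ H597.Base.ker hψ ⊓ (H597.Base.ker hψ').map (H.comap π).subtype
  have mV : ∀ {u : Γ}, u ∈ V ↔ π u = 1 ∧ ψ u = ψ 1 ∧ ψ' u = ψ' 1 := fun {u} =>
    ⟨fun ⟨⟨h1, h2⟩, _, h3, h4⟩ => ⟨h1, h2, h4 ▸ h3⟩, fun ⟨h1, h2, h3⟩ => ⟨⟨h1, h2⟩, ⟨u, k2 h1⟩, h3, rfl⟩⟩
  let f : L →* L.map π := π.subgroupMap L
  have i1 : IsIrrCharacter L fun n => ψ n := by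
    rw [show (fun n : L => ψ n) = (fun n : L.map π => θ n) ∘ f from funext fun n => e n n.2]
    exact isIrr_comp f (π.subgroupMap_surjective L) hθ
  have i2 : IsIrrCharacter (L ⊓ H.comap π : Subgroup Γ) fun n => ψ' n := by
    let f' : (L ⊓ H.comap π : Subgroup Γ) →* (L.map π ⊓ H : Subgroup G) :=
      (π.comp (Subgroup.subtype _)).codRestrict _ fun n => ⟨⟨n, n.2.1, rfl⟩, n.2.2⟩
    rw [show (fun n : (L ⊓ H.comap π : Subgroup Γ) => ψ' n) = (fun n : (L.map π ⊓ H : Subgroup G) => θ' n) ∘ f' from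
      funext fun n => e' n n.2.1 n.2.2]
    refine isIrr_comp f' ?_ hθ'
    rintro ⟨_, ⟨n, hn, rfl⟩, h⟩
    exact ⟨⟨n, hn, h⟩, rfl⟩
  have k3 : ∀ {u : Γ}, π u = 1 → ∀ x, π (x * u * x⁻¹ * u⁻¹) = 1 := fun h x => by simp [h]
  have k4 : ∀ {u : Γ}, π u = 1 → ∀ n ∈ L, n * u * n⁻¹ * u⁻¹ ∈ V := fun {u} h n hn => mV.2 ⟨k3 h n, k1 _ (by
    rw [mul_assoc, mul_assoc]
    exact mul_mem hn (by simpa [mul_assoc] using hL.conj_mem _ (inv_mem hn) u)) (k3 h n)⟩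
  have k5 : ∀ {u : Γ}, π u = 1 → ∀ x, x * u * x⁻¹ * u⁻¹ ∈ V := fun {u} h x => by
    have h1 : L ⊔ H.comap π = ⊤ := by
      rw [eq_top_iff, ← Subgroup.comap_top π.rangeRestrict]
      intro y _
      have h2 : y ∈ ((L ⊔ H.comap π).map π).comap π := by
        rw [Subgroup.map_sup, Subgroup.map_comap_eq, hr]
        exact hf (hr ▸ ⟨y, rfl⟩)
      rwa [Subgroup.comap_map_eq, sup_eq_left.2 (le_sup_of_le_right fun z hz => k2 hz)] at h2
    obtain ⟨n, hn, y, hy, rfl⟩ := Subgroup.mem_sup_of_normal_left.1 (h1 ▸ Subgroup.mem_top x)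
    have h2 : y * u * y⁻¹ * u⁻¹ ∈ V := mV.2 ⟨k3 h y, sc' L.subtype hψ i1 (fun a => (mV.1 (k4 h a a.2)).2.1) y,
      sc' (Subgroup.inclusion inf_le_right) hψ' i2 (u := ⟨u, k2 h⟩) (fun a => (mV.1 (k4 h a a.2.1)).2.2) ⟨y, hy⟩⟩
    rw [show n * y * u * (n * y)⁻¹ * u⁻¹ = n * (y * u * y⁻¹ * u⁻¹) * n⁻¹ * (y * u * y⁻¹ * u⁻¹)⁻¹ *
      (y * u * y⁻¹ * u⁻¹) * (n * u * n⁻¹ * u⁻¹) by group]
    exact mul_mem (mul_mem (k4 (k3 h y) n hn) h2) (k4 h n hn)
  have : V.Normal := ⟨fun v hv x => by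
    rw [← inv_mul_cancel_right (x * v * x⁻¹) v]
    exact mul_mem (k5 (mV.1 hv).1 x) hv⟩
  let q := QuotientGroup.mk' V
  have hq : Function.Surjective q := QuotientGroup.mk'_surjective V
  have q1 : ∀ {x}, q x = 1 ↔ x ∈ V := QuotientGroup.eq_one_iff _
  let π' : Γ ⧸ V →* G := QuotientGroup.lift V π fun x hx => (mV.1 hx).1
  let q' : H.comap π →* H.comap π' := (q.comp (Subgroup.subtype _)).codRestrict _ fun x => x.2
  obtain ⟨χ, h1, h2⟩ := H229.RIM.exists_irr_of_ker q hq (CharactersDeep.MaxInduced.isIrr_of_comp L.subtype hψ i1)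
    fun z hz => (mV.1 (q1.1 hz)).2.1
  obtain ⟨χ', h3, h4⟩ := H229.RIM.exists_irr_of_ker q' (fun ⟨y, hy⟩ => by
      obtain ⟨x, rfl⟩ := hq y
      exact ⟨⟨x, hy⟩, rfl⟩)
    (CharactersDeep.MaxInduced.isIrr_of_comp (Subgroup.inclusion inf_le_right) hψ' i2)
    fun z hz => (mV.1 (q1.1 (congrArg Subtype.val hz))).2.2
  have h5 : ∀ x, π x ∈ H → extendByZero (H.comap π') χ' (q x) = ψ' x := fun x hx =>
    (ClassSum.extendByZero_coe' _ _ (q' ⟨x, hx⟩)).trans (h4 ⟨x, hx⟩).symm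
  let s : L.map π →* Γ ⧸ V := f.liftOfSurjective (π.subgroupMap_surjective L) ⟨q.comp L.subtype, fun x hx =>
    q1.2 (mV.2 ⟨congrArg Subtype.val hx, k1 x x.2 (congrArg Subtype.val hx)⟩)⟩
  have h6 : ∀ x : L, s (f x) = q x := fun x => f.liftOfRightInverse_comp_apply _ _ _ x
  have h7 : ∀ n : L.map π, ∃ x : L, f x = n := π.subgroupMap_surjective L
  refine ⟨Γ ⧸ V, inferInstance, inferInstance, ⟨π', s, χ, extendByZero _ χ', ?_, fun y hy => ?_, fun n => ?_, ?_, h1, ?_,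
    fun n => ?_, fun n hn => ?_⟩, q, hq, fun _ => rfl, fun x => (h2 x).symm, h5,
      fun y hy => ClassSum.extendByZero_of_notMem' _ _ hy, fun x hx n hn => ?_⟩
  · rw [← hr]
    ext y
    exact ⟨fun ⟨x, hx⟩ => by
      obtain ⟨x, rfl⟩ := hq x
      exact ⟨x, hx⟩, fun ⟨x, hx⟩ => ⟨q x, hx⟩⟩
  · obtain ⟨y, rfl⟩ := hq y
    refine Subgroup.mem_center_iff.2 fun x => ?_
    obtain ⟨x, rfl⟩ := hq x
    have h8 := q1.2 (k5 hy x)
    rwa [map_mul, map_mul, map_mul, map_inv, map_inv, mul_inv_eq_one, mul_inv_eq_iff_eq_mul] at h8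
  · obtain ⟨x, rfl⟩ := h7 n
    rw [h6]
    rfl
  · have h8 : s.range = L.map q := by
      ext y
      exact ⟨fun ⟨n, hn⟩ => by
        obtain ⟨x, rfl⟩ := h7 n
        exact ⟨x, x.2, (h6 x).symm.trans hn⟩, fun ⟨x, hx, hy⟩ => ⟨f ⟨x, hx⟩, (h6 _).trans hy⟩⟩
    exact h8 ▸ hL.map q hq
  · rwa [funext (ClassSum.extendByZero_coe' _ χ')]
  · obtain ⟨x, rfl⟩ := h7 n
    rw [h6, ← h2]
    exact e x x.2
  · obtain ⟨x, rfl⟩ := h7 n
    rw [h6, h5 _ hn]
    exact e' x x.2 hn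
  · exact (congrArg s (Subtype.ext hn.symm)).trans (h6 ⟨x, hx⟩)

/-- **Tensor induction.** -/
theorem tind {Γ X W : Type} [Group Γ] [Group W] [Fintype X] (σ : Γ →* Equiv.Perm X) (a : Γ → X → W)
    (ha : ∀ g h i, a (g * h) i = a g (σ h i) * a h i) {ψ : W → ℂ} (hψ : IsCharacter W ψ) :
    ∃ Ψ, IsCharacter Γ Ψ ∧ ∀ g, (∀ i, σ g i = i) → Ψ g = ∏ i, ψ (a g i) := by
  classical
  obtain ⟨n, ρ, rfl⟩ := hψ
  let R : W →* Matrix (Fin n) (Fin n) ℂ := (LinearMap.toMatrixAlgEquiv' (R := ℂ) (n := Fin n)).toMonoidHom.comp ρ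
  let m : Γ →* Matrix (X → Fin n) (X → Fin n) ℂ :=
    { toFun := H891.KGV.tmat R σ a
      map_one' := H891.KGV.tmat_one R σ a ha
      map_mul' := H891.KGV.tmat_mul R σ a ha }
  refine ⟨_, isCharacter_of_rep ((Matrix.toLinAlgEquiv' (R := ℂ) (n := X → Fin n)).toMonoidHom.comp m), fun g hg => ?_⟩
  change LinearMap.trace ℂ _ (Matrix.toLin' (m g)) = _
  rw [Matrix.trace_toLin'_eq]
  change ∑ x : X → Fin n, ∏ i, R (a g i) (x (σ g i)) (x i) = _
  simp only [hg]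
  rw [← Fintype.piFinset_univ, ← Finset.prod_univ_sum (fun _ => Finset.univ) fun i j => R (a g i) j j]
  refine Finset.prod_congr rfl fun i _ => ?_
  change (LinearMap.toMatrix' (ρ (a g i))).trace = LinearMap.trace ℂ _ (ρ (a g i))
  rw [← Matrix.trace_toLin'_eq, Matrix.toLin'_toMatrix']

/-- **Tensor induction of a family.** -/
theorem tind_fam {Γ I V : Type} [Group Γ] [Group V] [Fintype I] (σ : Γ →* Equiv.Perm I) (r : I → I)
    (hr : ∀ g i, r (σ g i) = r i) (U : I → Subgroup V) (a : Γ → I → V)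
    (ha : ∀ g h i, a (g * h) i = a g (σ h i) * a h i) (hU : ∀ g i, a g i ∈ U (r i)) {Ψ : I → V → ℂ}
    (hΨ : ∀ j, IsCharacter (U j) fun u => Ψ j u) :
    ∃ Φ, IsCharacter Γ Φ ∧ ∀ g, (∀ i, σ g i = i) → Φ g = ∏ i, Ψ (r i) (a g i) := by
  classical
  have key : ∀ j, ∃ Φ, IsCharacter Γ Φ ∧ ∀ g, (∀ i, σ g i = i) → Φ g = ∏ i : {i // r i = j}, Ψ (r i) (a g i) := by
    intro j
    let σ' : Γ →* Equiv.Perm {i // r i = j} :=
      { toFun := fun g => (σ g).subtypePerm fun i => by rw [hr]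
        map_one' := by ext; simp
        map_mul' := fun g h => Equiv.ext fun i => Subtype.ext (congrArg (fun e : Equiv.Perm I => e i) (map_mul σ g h)) }
    obtain ⟨Φ, h1, h2⟩ := tind σ' (fun g i => (⟨a g i, (congrArg U i.2).le (hU g i)⟩ : U j)) (fun g h i => Subtype.ext (ha g h i)) (hΨ j)
    exact ⟨Φ, h1, fun g hg => (h2 g fun i => Subtype.ext (hg i)).trans
      (Finset.prod_congr rfl fun i _ => (congrArg (fun k => Ψ k (a g i)) i.2).symm)⟩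
  choose Φ h1 h2 using key
  refine ⟨_, H793.PC.isCharacter_finset_prod Finset.univ Φ fun j _ => h1 j, fun g hg => ?_⟩
  exact (Finset.prod_congr rfl fun j _ => h2 j g hg).trans (Fintype.prod_fiberwise r fun i => Ψ (r i) (a g i))

end Cfsg.Agent.BH.Star
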