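import Cfsg.Agent.BH.Star.Defs
import Cfsg.Agent.BH.Main.I

/-!
# BH, box S1R: transport to the normalizer (helper17)
-/

set_option autoImplicit false
set_option linter.style.haveILetI false
set_option linter.unusedSectionVars false

namespace Cfsg.Agent.BH

open Cfsg Cfsg.Agent Cfsg.Agent.Characters.Core Cfsg.Agent.Blocks Cfsg.Agent.TID.Red Cfsg.Agent.KM.BK Cfsg.Agent.TO
open Cfsg.Agent.H592.Transport (tr trSet tr_mem_trSet mem_trSet isPBlock_trSet sameBlock_tr)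

namespace Star.Fin

variable {p : ℕ} {M : Ideal AlgInt} {G : Type} [Group G]

theorem in_sub {X Q : Subgroup G} {θ : G → ℂ} (h0 : ∀ g, g ∉ X → θ g = 0) (hQ : Q ≤ X ∨ Q = ⊤) :
    In (Q.subgroupOf X) (fun x : X => θ x) = (In Q θ).subgroupOf X := by
  ext k
  have h1 : ∀ y, (k : G) * y * (k : G)⁻¹ ∈ X ↔ y ∈ X := fun y =>
    (Subgroup.mem_normalizer_iff.1 (Subgroup.le_normalizer k.2) y).symm
  refine ⟨fun h => Cmp.mem_In_iff.2 ⟨fun y => ?_, fun y => ?_⟩, fun h => ⟨fun x => h.1 x, fun x => h.2 x⟩⟩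
  · by_cases hy : y ∈ X
    · exact h.1 ⟨y, hy⟩
    · rcases hQ with hQ | rfl
      · exact ⟨fun h2 => absurd ((h1 y).1 (hQ h2)) hy, fun h2 => absurd (hQ h2) hy⟩
      · rfl
  · by_cases hy : y ∈ X
    · exact h.2 ⟨y, hy⟩
    · exact (h0 _ fun h2 => hy ((h1 y).1 h2)).trans (h0 y hy).symm

/-- the restriction of an isomorphism -/
def restr {A A' : Type} [Group A] [Group A'] (e : A' ≃* A) {C' : Subgroup A'} {C : Subgroup A}
    (h : ∀ x, e x ∈ C ↔ x ∈ C') : C' ≃* C where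
  toFun c := ⟨e c, (h _).2 c.2⟩
  invFun c := ⟨e.symm c, (h _).1 (by rw [e.apply_symm_apply]; exact c.2)⟩
  left_inv c := Subtype.ext (e.symm_apply_apply c)
  right_inv c := Subtype.ext (e.apply_symm_apply c)
  map_mul' c d := Subtype.ext (map_mul e _ _)

theorem fn_iff {A A' : Type} [Group A] [Group A'] (e : A' ≃* A) {b : Set (IrrCharacter A)} (f : A → ℂ) :
    (fun x => f (e x)) ∈ Fn (trSet e b) ↔ f ∈ Fn b := by
  constructor
  · rintro ⟨ψ, h1, h2⟩
    refine ⟨_, h1, funext fun x => ?_⟩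
    rw [← e.apply_symm_apply x]
    exact (congrArg ψ.1 (e.symm_apply_apply _)).trans (congrFun h2 _)
  · rintro ⟨ψ, h1, rfl⟩
    exact ⟨tr e ψ, tr_mem_trSet.2 h1, rfl⟩

theorem three_tr {A A' : Type} [Group A] [Group A'] (e : A' ≃* A) {b : Set (IrrCharacter A)}
    (h : Three (trSet e b)) : Three b := by
  obtain ⟨_, ⟨χ₁, m1, rfl⟩, _, ⟨χ₂, m2, rfl⟩, _, ⟨χ₃, m3, rfl⟩, h3⟩ := h
  have key : ∀ (α : MulAut A) (χ ψ : IrrCharacter A'), (tr e.symm χ).1 ∘ α = (tr e.symm ψ).1 →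
      χ.1 ∘ (e.trans (α.trans e.symm) : MulAut A') = ψ.1 := fun α χ ψ h => funext fun x =>
    (congrFun h (e x)).trans (congrArg ψ.1 (e.symm_apply_apply x))
  exact ⟨_, ⟨_, m1, rfl⟩, _, ⟨_, m2, rfl⟩, _, ⟨_, m3, rfl⟩, fun α =>
    ⟨fun h => (h3 _).1 (key α _ _ h), fun h => (h3 _).2.1 (key α _ _ h), fun h => (h3 _).2.2 (key α _ _ h)⟩⟩

/-- a match in a subgroup -/
theorem match_up {Y K T H : Subgroup G} (hK : K ≤ Y) {T' : Subgroup Y} (hT : T'.map Y.subtype = T) {θ θ' : G → ℂ}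
    {φ φ' : Y → ℂ} (h1 : ∀ y : Y, θ y = φ y) (h2 : ∀ y : Y, θ' y = φ' y)
    (h : HasMatch p M T' (K.subgroupOf Y) (H.subgroupOf Y) φ φ') : HasMatch p M T K H θ θ' := by
  obtain ⟨W, _, _, ⟨m⟩⟩ := h
  let e := (Subgroup.subgroupOfEquivOfLe hK).symm
  have hs : ∀ w, cls (m.s.comp e.toMonoidHom) w = cls m.s w := fun w => Set.ext fun v =>
    ⟨fun ⟨n, hn⟩ => ⟨e n, hn⟩, fun ⟨n, hn⟩ => ⟨e.symm n, by
      rw [hn]
      change _ = m.s (e (e.symm n)) * w * (m.s (e (e.symm n)))⁻¹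
      rw [e.apply_symm_apply]⟩⟩
  refine ⟨W, inferInstance, inferInstance, ⟨⟨Y.subtype.comp m.π, m.s.comp e.toMonoidHom, m.ψ, m.ψ', ?_, ?_, ?_, ?_,
    m.irr, m.irr', ?_, ?_, ?_⟩⟩⟩
  · rw [MonoidHom.range_comp, m.range, hT]
  · exact fun w hw => m.cen (Subtype.ext hw)
  · exact fun n => congrArg Subtype.val (m.sec (e n))
  · rw [MonoidHom.range_comp, MonoidHom.range_eq_top.2 e.surjective, ← MonoidHom.range_eq_map]
    exact m.normal
  · exact fun n => (m.ext (e n)).trans (h1 _).symm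
  · exact fun n hn => (m.ext' (e n) hn).trans (h2 _).symm
  · intro w hw
    rw [hs, show θ 1 = φ 1 from h1 1, show θ' 1 = φ' 1 from h2 1]
    exact m.cong w hw

theorem ebz_conj {Y : Subgroup G} (f : Y → ℂ) (h : Y) :
    extendByZero Y (f ∘ MulAut.conj h) = extendByZero Y f ∘ MulAut.conj (h : G) := by
  funext x
  by_cases hx : x ∈ Y
  · exact (ClassSum.extendByZero_coe' Y _ ⟨x, hx⟩).trans
      (ClassSum.extendByZero_coe' Y f (MulAut.conj h ⟨x, hx⟩)).symm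
  · rw [ClassSum.extendByZero_of_notMem' Y _ hx]
    exact (ClassSum.extendByZero_of_notMem' Y _ fun h1 =>
      hx ((Subgroup.mem_normalizer_iff.1 (Subgroup.le_normalizer h.2) x).2 h1)).symm

end Star.Fin

open Star.Fin

/-- **[S1R]** -/
theorem boxS1R {p : ℕ} [Fact p.Prime] {M : Ideal AlgInt} (S1 : BoxS1 p M) : BoxS1R p M := by
  intro km G _ _ K b Q θ r hfr hs hz h3
  set Y := Subgroup.normalizer (K : Set G) with hY
  have hK : K ≤ Y := Subgroup.le_normalizer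
  have hQ : Q ≤ Y := r.le.trans hK
  have h0 : ∀ g, g ∉ Y → θ g = 0 := fun g hg => r.zero g fun h => hg (hK h)
  have hin := in_sub h0 (Or.inl hQ)
  have : (K.subgroupOf Y).Normal := Subgroup.normal_in_normalizer
  let e := Subgroup.subgroupOfEquivOfLe hK
  obtain ⟨τ, t1, t2, t3, t4, t5⟩ := S1 km Y (K.subgroupOf Y) _ _ _ (Main.root_sub hK r)
    (by
      rw [hin, ← Subgroup.inf_subgroupOf_right (In Q θ), ← Subgroup.subgroupOf_sup hK inf_le_right,
        Subgroup.subgroupOf_eq_top]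
      exact hfr)
    (by
      unfold Small at hs ⊢
      rwa [KM.Mu.card_sub hQ])
    (by
      rw [eq_bot_iff]
      intro x hx
      have h1 : (x : G) ∈ Zr K Q θ := ⟨hx.1, fun t ht => congrArg Subtype.val
        (hx.2 ⟨t, hK ht.2⟩ ⟨hin ▸ ht.1, ht.2⟩)⟩
      rw [hz] at h1
      exact Subtype.ext h1)
    (fun h => h3 (three_tr e h))
  rw [hin] at t1 t2
  have hfn : ∀ χ : G → ℂ, (fun n : K.subgroupOf Y => χ n) ∈ Fn (trSet e b) ↔ (fun n : K => χ n) ∈ Fn b :=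
    fun χ => fn_iff e fun n : K => χ n
  refine ⟨fun χ => extendByZero Y (τ fun y => χ y), fun χ h hh => ?_, fun χ y hy => ?_, fun χ χ' m m' h n => ?_,
    fun η hη => ?_, fun χ m hχ => ?_⟩
  · rw [← ebz_conj _ ⟨h, hh.2⟩, ← t1 _ ⟨h, hh.2⟩ hh.1]
    rfl
  · by_cases h : y ∈ Y
    · exact (ClassSum.extendByZero_coe' Y _ ⟨y, h⟩).trans (t2 _ _ hy)
    · exact ClassSum.extendByZero_of_notMem' Y _ h
  · refine t3 (fun y => χ y) (fun y => χ' y) ((hfn χ).2 m) ((hfn χ').2 m') (funext fun y => ?_) (e.symm n)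
    rw [← ClassSum.extendByZero_coe' Y (τ fun y => χ y), ← ClassSum.extendByZero_coe' Y (τ fun y => χ' y)]
    exact congrFun h y
  · obtain ⟨ξ, hξ, h1⟩ := hη
    have hX : K ⊓ In Q θ ≤ Y := inf_le_left.trans hK
    let e₂ : (K.subgroupOf Y ⊓ In (Q.subgroupOf Y) fun y : Y => θ y : Subgroup Y) ≃* (K ⊓ In Q θ : Subgroup G) :=
      (MulEquiv.subgroupCongr (by rw [hin]; rfl)).trans (Subgroup.subgroupOfEquivOfLe hX)
    let e₃ := restr e₂ (C' := (Ce (Q.subgroupOf Y)).subgroupOf _) (C := (Ce Q).subgroupOf _)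
      fun x => (Main.ce_iff hQ x.1).symm
    obtain ⟨χ, m1, m2, m3⟩ := t4 (tr e₂ η) ⟨tr e₃ ξ, fun c => by
      have h2 := hξ (e₃ c)
      rw [← Fong.centralChar_comp_equiv e₃, ← Fong.centralChar_comp_equiv e₃] at h2
      exact h2, by
      refine (ov_src_iff e₃ (ι := e₂.symm.toMonoidHom.comp (Subgroup.subtype _)) (fun a => ?_) _ ξ).2
        (Ov.congr (fun a => congrArg η.1 (e₂.apply_symm_apply _)) h1)
      exact (e₂.symm_apply_apply _).symm⟩
    have h2 : (fun y : Y => extendByZero Y χ y) = χ := funext (ClassSum.extendByZero_coe' Y χ)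
    refine ⟨extendByZero Y χ, (hfn _).1 ?_, fun y hy => ?_, fun n => ?_⟩
    · convert m1 using 2 with n
      exact ClassSum.extendByZero_coe' Y χ _
    · by_cases h : y ∈ Y
      · exact (ClassSum.extendByZero_coe' Y _ ⟨y, h⟩).trans (m2 _ hy)
      · exact ClassSum.extendByZero_of_notMem' Y _ h
    · change extendByZero Y (τ fun y : Y => extendByZero Y χ y) n = _
      rw [h2]
      exact (ClassSum.extendByZero_coe' Y _ (e₂.symm n).1).trans
        ((m3 (e₂.symm n)).trans (congrArg η.1 (e₂.apply_symm_apply n)))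
  · have h1 := (t5 (fun y => χ y) ((hfn χ).2 m) fun y hy => hχ y hy).2
    rw [hin] at h1
    refine match_up hK ?_ (fun _ => rfl) (ClassSum.extendByZero_coe' Y _) h1
    rw [← Subgroup.subgroupOf_map_subtype, ← in_sub (fun g hg => hχ g fun h => hg (hK h)) (Or.inr rfl),
      Subgroup.top_subgroupOf]

end Cfsg.Agent.BH
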