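import Cfsg.Agent.BH.Star.Pre
import Cfsg.Agent.BH.Cmp.A

/-!
# BH, box TENS: the central product (helper57)
-/

set_option autoImplicit false
set_option linter.unusedSectionVars false

namespace Cfsg.Agent.BH.Star

open Cfsg Cfsg.Agent Cfsg.Agent.Characters.Core Cfsg.Agent.Blocks Cfsg.Agent.TID.Red Cfsg.Agent.KM.BK Cfsg.Agent.TO

variable {G I : Type} [Group G]

/-- the embedding of `K` by conjugation -/
def em (K : Subgroup G) (x : G) : K →* G := (MulAut.conj x).toMonoidHom.comp K.subtype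

theorem em_apply (K : Subgroup G) (x : G) (k : K) : em K x k = x * k * x⁻¹ := rfl

theorem em_mem (K : Subgroup G) (x : G) (k : K) : em K x k ∈ cj x K := ⟨k, k.2, rfl⟩

theorem em_range (K : Subgroup G) (x : G) : (em K x).range = cj x K := by
  rw [em, MonoidHom.range_comp, Subgroup.range_subtype]

theorem cj_eq {K : Subgroup G} {a b : G} (h : a⁻¹ * b ∈ Subgroup.normalizer (K : Set G)) : cj b K = cj a K := by
  ext x
  constructor
  · rintro ⟨k, hk, rfl⟩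
    exact ⟨_, (Subgroup.mem_normalizer_iff.1 h k).1 hk, show a * (a⁻¹ * b * k * (a⁻¹ * b)⁻¹) * a⁻¹ = b * k * b⁻¹ by group⟩
  · rintro ⟨k, hk, rfl⟩
    exact ⟨_, (Subgroup.mem_normalizer_iff.1 (inv_mem h) k).1 hk,
      show b * ((a⁻¹ * b)⁻¹ * k * (a⁻¹ * b)⁻¹⁻¹) * b⁻¹ = a * k * a⁻¹ by group⟩

variable [Finite G] [MulAction G I] {p : ℕ} [Fact p.Prime] {M : Ideal AlgInt} {K H₀ T H N Z : Subgroup G}
  {g : I → G} {X X' : I → G → ℂ} {θ θ' : G → ℂ} (d : TData p M K H₀ T H N Z g X X' θ θ')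

include d

theorem cj_le (i : I) : cj (g i) K ≤ N := d.sup ▸ (le_iSup (fun i => cj (g i) K) i).trans le_sup_left

theorem conj_mem (i : I) {k : G} (hk : k ∈ K) : g i * k * (g i)⁻¹ ∈ N := cj_le d i ⟨k, hk, rfl⟩

theorem z_le : Z ≤ N := d.sup ▸ le_sup_right

theorem z_comm {z : G} (hz : z ∈ Z) (x : G) : x * z = z * x := Subgroup.mem_center_iff.1 (d.cen hz) x

theorem z_ce : Z ≤ Ce K := d.cen.trans (Subgroup.center_le_centralizer _)

theorem conj_cj {t : G} (ht : t ∈ T) (i : I) {x : G} (hx : x ∈ cj (g i) K) : t * x * t⁻¹ ∈ cj (g (t • i)) K := by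
  obtain ⟨k, hk, rfl⟩ := hx
  rw [← cj_eq (b := t * g i) (mul_assoc _ t _ ▸ d.nrm t ht i)]
  exact ⟨k, hk, show t * g i * k * (t * g i)⁻¹ = t * (g i * k * (g i)⁻¹) * t⁻¹ by group⟩

theorem le_norm : T ≤ Subgroup.normalizer (N : Set G) := fun t ht => Subgroup.mem_normalizer_fintype fun n hn => by
  have h1 : N ≤ N.comap (MulAut.conj t).toMonoidHom := by
    conv_lhs => rw [d.sup]
    refine sup_le (iSup_le fun i x hx => cj_le d _ (conj_cj d ht i hx)) fun z hz => ?_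
    change t * z * t⁻¹ ∈ N
    rw [z_comm d hz, mul_inv_cancel_right]
    exact z_le d hz
  exact h1 hn

theorem dec {t : G} (ht : t ∈ T) : ∃ n ∈ N, ∃ h ∈ T ⊓ H, n * h = t := by
  have h1 : t ∈ ((N ⊔ (T ⊓ H) : Subgroup G) : Set G) := d.fra ht
  rwa [Subgroup.coe_mul_of_right_le_normalizer_left _ _ (inf_le_left.trans (le_norm d))] at h1

theorem ce_of_ne {i j : I} (h : j ≠ i) {x : G} (hx : x ∈ cj (g j) K) : (g i)⁻¹ * x * g i ∈ Ce K := fun k hk => by
  have h1 : g i * k * (g i)⁻¹ * x = x * (g i * k * (g i)⁻¹) := d.comm j i h hx _ ⟨k, hk, rfl⟩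
  calc k * ((g i)⁻¹ * x * g i) = (g i)⁻¹ * (g i * k * (g i)⁻¹ * x) * g i := by group
    _ = _ := by rw [h1]; group

/-- `p`-elements of `K` which commute with an element moving the factor -/
theorem eq_one_of_move {t : G} (ht : t ∈ T) {i : I} (hi : t • i ≠ i) {b : K} {k : ℕ} (hb : b ^ p ^ k = 1)
    (h : em K (g i) b * t = t * em K (g i) b) : b = 1 := by
  have h1 := conj_cj d ht i (em_mem K (g i) b)
  rw [← h, mul_inv_cancel_right] at h1
  have h2 := ce_of_ne d hi h1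
  rw [em_apply, show (g i)⁻¹ * (g i * b * (g i)⁻¹) * g i = b by group] at h2
  exact KM.Mu.eq_one_of_coprime hb (congrArg Subtype.val (pow_card_eq_one'
    (x := (⟨b, Subgroup.mem_center_iff.2 fun y => Subtype.ext (h2 y y.2)⟩ : Subgroup.center K)))) d.zp

/-- **Normalisation of the coset representatives.** -/
theorem norm : ∃ (r : I → I) (h : I → G), (∀ i, h i ∈ T) ∧ (∀ t ∈ T, ∀ i, r (t • i) = r i) ∧
    TData p M K H₀ T H N Z (fun i => h i * g (r i)) (fun i => X (r i)) (fun i => X' (r i)) θ θ' := by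
  let r : I → I := fun i => (Quotient.mk (MulAction.orbitRel (T ⊓ H : Subgroup G) I) i).out
  have h1 : ∀ i, ∃ h ∈ T ⊓ H, h • r i = i := fun i => by
    obtain ⟨h, e⟩ := (MulAction.orbitRel (T ⊓ H : Subgroup G) I).symm (Quotient.mk_out i)
    exact ⟨h, h.2, e⟩
  choose h h2 h3 using h1
  have h4 : ∀ t ∈ T, ∀ i, r (t • i) = r i := fun t ht i => by
    obtain ⟨n, hn, x, hx, rfl⟩ := dec d ht
    rw [mul_smul, d.fix n hn]
    exact congrArg Quotient.out (Quotient.sound ⟨⟨x, hx⟩, rfl⟩)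
  have h5 : ∀ i, cj (h i * g (r i)) K = cj (g i) K := fun i => cj_eq (by
    have h6 := d.nrm _ (h2 i).1 (r i)
    rwa [h3, mul_assoc] at h6)
  have h6 : ∀ t ∈ T, ∀ i, ((h (t • i))⁻¹ * t * h i) • r i = r i := fun t ht i => by
    rw [mul_smul, mul_smul, h3, inv_smul_eq_iff, ← h4 t ht i, h3]
  have h7 : ∀ t ∈ T, ∀ i, (h (t • i) * g (r (t • i)))⁻¹ * t * (h i * g (r i)) =
      (g (((h (t • i))⁻¹ * t * h i) • r i))⁻¹ * ((h (t • i))⁻¹ * t * h i) * g (r i) := fun t ht i => by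
    rw [h6 t ht, h4 t ht]
    group
  have h8 : ∀ i (k : G), h i * g (r i) * k * (h i * g (r i))⁻¹ = h i * (g (r i) * k * (g (r i))⁻¹) * (h i)⁻¹ :=
    fun i k => by group
  refine ⟨r, h, fun i => (h2 i).1, h4, d.hM, d.perf, d.zp, d.ce, fun i j e => ?_, d.cen, ?_, d.le, d.fra, d.zH, d.fix,
    fun i k hk hk' => ?_, fun t ht i => ?_, fun t ht i => ?_, d.irr, d.irr', fun i => d.irrX _, fun i => d.irrX' _,
    fun i k hk => ?_, fun i k hk => ?_, d.prZ, d.inv, d.inv', fun i => ?_, fun i => d.pos _, fun i => d.pos' _⟩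
  · rw [h5, h5]
    exact d.comm i j e
  · simp only [h5]
    exact d.sup
  · rw [h8]
    exact H.mul_mem (H.mul_mem (h2 i).2 (d.mem _ k hk hk')) (H.inv_mem (h2 i).2)
  · rw [h7 t ht.1]
    exact d.loc _ (mul_mem (mul_mem (inv_mem (h2 _)) ht) (h2 i)) _
  · rw [h7 t ht]
    exact d.nrm _ (T.mul_mem (T.mul_mem (T.inv_mem (h2 _).1) ht) (h2 i).1) _
  · rw [h8, d.inv _ (h2 i).1 _ (conj_mem d _ hk)]
    exact d.pr _ k hk
  · rw [h8, d.inv' _ (h2 i) _ ⟨conj_mem d _ hk.1, d.mem _ k hk.1 hk.2⟩]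
    exact d.pr' _ k hk
  · obtain ⟨T₀, h9, h10⟩ := d.mat (r i)
    refine ⟨T₀, fun y hy e => h9 y hy ?_, h10⟩
    rw [h8] at e
    exact (T.mul_mem_cancel_left (h2 i).1).1 ((T.mul_mem_cancel_right (T.inv_mem (h2 i).1)).1 e)

variable [Fintype I]

/-- the multiplication of the factors -/
def mu : (I → K) →* G := MonoidHom.noncommPiCoprod (N := fun _ => K) (fun i => em K (g i))
  fun i j h a b => (d.comm i j h (em_mem K _ a) _ (em_mem K _ b)).symm

theorem mu_single [DecidableEq I] (i : I) (a : K) : mu d (Pi.mulSingle i a) = em K (g i) a :=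
  MonoidHom.noncommPiCoprod_mulSingle (N := fun _ => K) _ i a

theorem mu_range : (mu d).range = ⨆ i, cj (g i) K := by
  refine (MonoidHom.noncommPiCoprod_range (H := fun _ => K) _).trans ?_
  simp only [em_range]

theorem mu_mem (k : I → K) : mu d k ∈ N := ((mu_range d).le.trans (iSup_le (cj_le d))) ⟨k, rfl⟩

theorem dec' {n : G} (hn : n ∈ N) : ∃ k, ∃ z ∈ Z, mu d k * z = n := by
  rw [d.sup, ← mu_range d] at hn
  obtain ⟨_, ⟨k, rfl⟩, h⟩ := exists_mul_of_le_centralizer (d.cen.trans (Subgroup.center_le_centralizer _)) hn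
  exact ⟨k, h⟩

theorem proj (i : I) {L : Subgroup G} (h : ∀ j, j ≠ i → ∀ x ∈ cj (g j) K, (g i)⁻¹ * x * g i ∈ L) (k : I → K) :
    (k i : G)⁻¹ * ((g i)⁻¹ * mu d k * g i) ∈ L := by
  classical
  have h1 : (Pi.mulSingle i (k i))⁻¹ * k ∈ L.comap ((MulAut.conj (g i)⁻¹).toMonoidHom.comp (mu d)) :=
    Subgroup.pi_mem_of_mulSingle_mem _ fun j => by
      by_cases e : j = i
      · subst e
        simp
      · change (g i)⁻¹ * mu d _ * (g i)⁻¹⁻¹ ∈ L
        rw [mu_single, inv_inv]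
        exact h j e _ (em_mem K _ _)
  have h2 : (g i)⁻¹ * mu d ((Pi.mulSingle i (k i))⁻¹ * k) * (g i)⁻¹⁻¹ ∈ L := h1
  rw [map_mul, map_inv, mu_single, em_apply] at h2
  convert h2 using 1
  group

theorem proj_ce (i : I) (k : I → K) : (k i : G)⁻¹ * ((g i)⁻¹ * mu d k * g i) ∈ Ce K :=
  proj d i (fun _ h _ hx => ce_of_ne d h hx) k

theorem mu_conj {t : G} (ht : t ∈ T) {k k' : I → K}
    (h : ∀ i, (k' (t • i) : G) = (g (t • i))⁻¹ * t * g i * k i * ((g (t • i))⁻¹ * t * g i)⁻¹) :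
    mu d k' = t * mu d k * t⁻¹ := by
  classical
  let y : I → MulAut K := fun i => Subgroup.normalizerMonoidHom K ⟨_, d.nrm t ht i⟩
  let α : (I → K) →* (I → K) := MonoidHom.pi fun j => (y (t⁻¹ • j)).toMonoidHom.comp (Pi.evalMonoidHom (fun _ => K) (t⁻¹ • j))
  have h1 : ∀ k i, α k (t • i) = y i (k i) := fun k i => by
    change y (t⁻¹ • t • i) (k (t⁻¹ • t • i)) = _
    rw [inv_smul_smul]
  have h2 : k' = α k := funext fun j => by
    rw [← smul_inv_smul t j, h1]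
    exact Subtype.ext (h _)
  have h3 : (mu d).comp α = (MulAut.conj t).toMonoidHom.comp (mu d) := MonoidHom.pi_ext fun i a => by
    have h4 : α (Pi.mulSingle i a) = Pi.mulSingle (t • i) (y i a) := funext fun j => by
      rw [← smul_inv_smul t j, h1]
      by_cases e : t⁻¹ • j = i
      · rw [e, Pi.mulSingle_eq_same, Pi.mulSingle_eq_same]
      · rw [Pi.mulSingle_eq_of_ne e, Pi.mulSingle_eq_of_ne fun e' => e (MulAction.injective t e'), map_one]
    change mu d (α _) = t * mu d _ * t⁻¹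
    rw [h4, mu_single, mu_single]
    change g (t • i) * ((g (t • i))⁻¹ * t * g i * a * ((g (t • i))⁻¹ * t * g i)⁻¹) * (g (t • i))⁻¹ =
      t * (g i * a * (g i)⁻¹) * t⁻¹
    group
  exact h2 ▸ DFunLike.congr_fun h3 k

theorem mu_memH {k : I → K} (h : ∀ i, (k i : G) ∈ H₀) : mu d k ∈ H := by
  classical
  refine Subgroup.pi_mem_of_mulSingle_mem (H := H.comap (mu d)) k fun i => ?_
  rw [Subgroup.mem_comap, mu_single]
  exact d.mem i _ (k i).2 (h i)

theorem mem_of_mu {k : I → K} {z : G} (hz : z ∈ Z) {i : I} (h : (g i)⁻¹ * (mu d k * z) * g i ∈ H₀) : (k i : G) ∈ H₀ := by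
  rw [mul_assoc, mul_assoc, ← z_comm d hz, ← mul_assoc, ← mul_assoc, H₀.mul_mem_cancel_right (d.ce (z_ce d hz))] at h
  exact H₀.inv_mem_iff.1 ((H₀.mul_mem_cancel_right h).1 (d.ce (proj_ce d i k)))

theorem loc' {t : G} (ht : t ∈ T ⊓ H) {i : I} (hi : t • i = i) : (g i)⁻¹ * t * g i ∈ H₀ := by
  have h1 := d.loc t ht i
  rwa [hi] at h1

theorem memH {t : G} (ht : t ∈ T) (hi : ∀ i : I, t • i = i) (h : ∀ i, (g i)⁻¹ * t * g i ∈ H₀) : t ∈ H := by
  obtain ⟨n, hn, x, hx, rfl⟩ := dec d ht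
  obtain ⟨k, z, hz, rfl⟩ := dec' d hn
  refine H.mul_mem (H.mul_mem (mu_memH d fun i => mem_of_mu d hz ?_) (d.zH hz)) hx.2
  have h1 := loc' d hx (i := i) (by rw [← d.fix _ hn (x • i), ← mul_smul, hi])
  convert H₀.mul_mem (h i) (H₀.inv_mem h1) using 1
  group

/-- the stabiliser of an element which fixes all factors -/
theorem idx {t : G} (ht : t ∈ T) (hi : ∀ i : I, t • i = i) : ∃ m : ℕ, ¬ p ∣ m ∧ Nat.card ((Cu t).comap (mu d)) =
    m * ∏ i, Nat.card ((Cu ((g i)⁻¹ * t * g i)).comap K.subtype) := by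
  let S := Subgroup.pi Set.univ fun i => (Cu ((g i)⁻¹ * t * g i)).comap K.subtype
  have h0 : ∀ i, (g i)⁻¹ * t * g i ∈ Subgroup.normalizer (K : Set G) := fun i => by simpa [hi] using d.nrm t ht i
  have h1 : ∀ k : I → K, mu d (fun i => ⟨_, (Subgroup.mem_normalizer_iff.1 (h0 i) _).1 (k i).2⟩) = t * mu d k * t⁻¹ :=
    fun k => mu_conj d ht fun i => by rw [hi]
  have h2 : S ≤ (Cu t).comap (mu d) := fun k hk => by
    rw [Subgroup.mem_comap, Subgroup.mem_centralizer_singleton_iff, eq_comm, ← mul_inv_eq_iff_eq_mul, ← h1]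
    refine congrArg _ (funext fun i => Subtype.ext ?_)
    exact mul_inv_eq_iff_eq_mul.2 (Subgroup.mem_centralizer_singleton_iff.1 (hk i trivial)).symm
  refine ⟨S.relIndex ((Cu t).comap (mu d)), fun h => ?_, ?_⟩
  · obtain ⟨P⟩ : Nonempty (Sylow p ((Cu t).comap (mu d))) := inferInstance
    refine P.not_dvd_index (h.trans (Subgroup.index_dvd_of_le fun k hk i _ => ?_))
    obtain ⟨n, hn⟩ := P.isPGroup' ⟨k, hk⟩
    have h3 : (k.1 i : G) ^ p ^ n = 1 :=
      congrArg (fun x : P => (x.1.1 i : G)) hn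
    have h4 := h1 k
    rw [← Subgroup.mem_centralizer_singleton_iff.1 k.2, mul_inv_cancel_right, eq_comm, ← inv_mul_eq_one, ← map_inv,
      ← map_mul] at h4
    have h5 := proj_ce d i ((k.1)⁻¹ * fun i => ⟨_, (Subgroup.mem_normalizer_iff.1 (h0 i) _).1 (k.1 i).2⟩)
    rw [h4, mul_one, inv_mul_cancel, mul_one, inv_mem_iff] at h5
    set y := (g i)⁻¹ * t * g i
    set a := k.1 i
    have h6 : (a : G)⁻¹ * (y * a * y⁻¹) ∈ Ce K := h5
    have h7 : (a : G)⁻¹ * (y * a * y⁻¹) ∈ K := mul_mem (inv_mem a.2) ((Subgroup.mem_normalizer_iff.1 (h0 i) _).1 a.2)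
    have h8 : ((a : G)⁻¹ * (y * a * y⁻¹)) ^ p ^ n = 1 := by
      have h9 := (show Commute (a : G) _ from h6 a a.2).mul_pow (p ^ n)
      rw [mul_inv_cancel_left, conj_pow, h3] at h9
      simpa using h9.symm
    have h9 := KM.Mu.eq_one_of_coprime h8 (congrArg (fun x : Subgroup.center K => (x.1 : G)) (pow_card_eq_one'
      (x := (⟨⟨_, h7⟩, Subgroup.mem_center_iff.2 fun y => Subtype.ext (h6 y y.2)⟩ : Subgroup.center K)))) d.zp
    rw [inv_mul_eq_one, eq_mul_inv_iff_mul_eq] at h9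
    exact Subgroup.mem_centralizer_singleton_iff.2 h9
  · rw [← H793.PC.card_pi' (A := fun _ => K), mul_comm, ← KM.Mu.card_inf_mul _ S, inf_eq_right.2 h2]

/-- **The product formulas.** -/
theorem prods : ∃ l : Z → ℂ, IsIrrCharacter Z l ∧ (∀ k (z : Z), θ (mu d k * z) = (∏ i, X i (k i)) * l z) ∧
    ∀ k : I → K, (∀ i, (k i : G) ∈ H₀) → ∀ z : Z, θ' (mu d k * z) = (∏ i, X' i (k i)) * l z := by
  classical
  obtain ⟨l, hl⟩ := exists_ov (Subgroup.inclusion (z_le d)) d.irr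
  have h1 : ∀ z : Z, θ z * l.1 1 = θ 1 * l.1 z := ((Cmp.cp_incl (z_le d) fun x _ => Subgroup.mem_sup_right
    fun z hz => (z_comm d hz x).symm).ov_iff ⟨_, d.irr⟩ l).1 hl
  have h2 : ∀ z w : Z, z * w = w * z := fun z w => Subtype.ext (z_comm d w.2 z)
  let m : (I → K) × Z →* G := (mu d).noncommCoprod Z.subtype fun k z => z_comm d z.2 _
  let e : (I → (K ⊓ H₀ : Subgroup G)) × Z →* (I → K) × Z :=
    ((Subgroup.inclusion inf_le_left).compLeft I).prodMap (MonoidHom.id Z)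
  have h3 : ∀ x, m x ∈ N := fun x => mul_mem (mu_mem d _) (z_le d x.2.2)
  refine ⟨l, l.2, fun k z => prod_pr h2 (m.codRestrict N h3) (fun n => ?_) d.irr d.irrX l.2 (fun i a => ?_)
    (fun z => ?_) (k, z), fun k hk z => prod_pr h2 ((m.comp e).codRestrict (N ⊓ H) fun x => ⟨h3 _, H.mul_mem
      (mu_memH d fun i => (x.1 i).2.2) (d.zH x.2.2)⟩) (fun n => ?_) d.irr' d.irrX' l.2 (fun i a => ?_)
        (fun z => ?_) (fun i => ⟨k i, (k i).2, hk i⟩, z)⟩
  · obtain ⟨k, z, hz, h⟩ := dec' d n.2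
    exact ⟨(k, ⟨z, hz⟩), Subtype.ext h⟩
  · change θ (mu d _ * 1) * _ = _
    rw [mu_single, mul_one]
    exact d.pr i a a.2
  · change θ (mu d 1 * z) * _ = _
    rw [map_one, one_mul]
    exact h1 z
  · obtain ⟨k, z, hz, h⟩ := dec' d n.2.1
    exact ⟨(fun i => ⟨k i, (k i).2, mem_of_mu d hz (h ▸ loc' d ⟨d.le n.2.1, n.2.2⟩ (d.fix _ n.2.1 i))⟩, ⟨z, hz⟩),
      Subtype.ext h⟩
  · have h4 : (e (Pi.mulSingle i a, 1)).1 = Pi.mulSingle i (Subgroup.inclusion inf_le_left a) := funext fun j =>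
      Pi.apply_mulSingle (fun _ => (Subgroup.inclusion (inf_le_left : K ⊓ H₀ ≤ K) :)) (fun _ => map_one _) i a j
    change θ' (mu d (e (Pi.mulSingle i a, 1)).1 * 1) * _ = _
    rw [h4, mu_single, mul_one]
    exact d.pr' i a a.2
  · change θ' (mu d (e 1).1 * z) * _ = θ' 1 * _
    rw [map_one, Prod.fst_one, map_one, one_mul]
    apply mul_left_cancel₀ (show θ 1 ≠ 0 from (isIrr_apply_one_ne_zero d.irr :))
    linear_combination θ' 1 * h1 z - l.1 1 * d.prZ z z.2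

end Cfsg.Agent.BH.Star
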